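import Mathlib.Algebra.Field.ZMod
import Mathlib.Algebra.Module.ZMod
import Mathlib.LinearAlgebra.Dimension.Free
import Mathlib.LinearAlgebra.FiniteDimensional.Basic
import Mathlib.FieldTheory.Finiteness
import Mathlib.GroupTheory.OrderOfElement
import Mathlib.Data.Nat.GCD.Basic
import Mathlib.Tactic.Abel

/-!
# Colourings of abelian groups with squarefree exponent fixed only by the identity

`exists_asym_colouring`: with the colours `0`, `1`, `a` of a field, and one point outside a set `S`
when the field has three elements, a finite abelian group of squarefree exponent has a colouring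
preserved by no automorphism but the identity.
-/

set_option autoImplicit false
set_option linter.style.haveILetI false

namespace Cfsg.Agent.BaseThree

universe u v

/-- The data of an asymmetric colouring with a special set `S` and generators `E`. -/
structure IsAsym {F : Type u} [AddCommGroup F] {K : Type v} [Zero K] (a : K) (S E : Set F)
    (c : F → K) : Prop where
  closure_eq : AddSubgroup.closure E = ⊤
  zero_mem : (0 : F) ∈ S
  subset : E ⊆ S
  add_mem : ∀ e ∈ E, ∀ f ∈ E, e + f ∈ S
  colour_zero : c 0 = a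
  rigid : ∀ h : F ≃+ F, (∀ y, h y ∈ S ↔ y ∈ S) → (∀ y ∈ S, c (h y) = c y) →
    (∀ y, c (h y) = 0 ↔ c y = 0) → ∀ y, h y = y

theorem fixed_of_closure {F : Type u} [AddCommGroup F] {E : Set F}
    (hE : AddSubgroup.closure E = ⊤) (h : F ≃+ F) (he : ∀ e ∈ E, h e = e) (y : F) : h y = y := by
  have hy : y ∈ AddSubgroup.closure E := hE ▸ AddSubgroup.mem_top y
  induction hy using AddSubgroup.closure_induction with
  | mem x hx => exact he x hx
  | zero => exact map_zero h
  | add x z _ _ h1 h2 => rw [map_add, h1, h2]
  | neg x _ h1 => rw [map_neg, h1]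

/-- A permutation of `0, …, n-1` (`n ≥ 4`) preserving the path and the triangle `{0,1,2}`. -/
theorem path_rigid {n : ℕ} (hn : 4 ≤ n) (π : ℕ → ℕ) (hlt : ∀ i < n, π i < n)
    (hinj : ∀ i < n, ∀ j < n, π i = π j → i = j)
    (hadj : ∀ i, i + 1 < n → π i + 1 = π (i + 1) ∨ π (i + 1) + 1 = π i)
    (htri : ∀ i < 3, π i < 3) : ∀ i < n, π i = i := by
  have i0 := htri 0 (by omega)
  have i1 := htri 1 (by omega)
  have i2 := htri 2 (by omega)
  have ne01 : π 0 ≠ π 1 := fun h => by have := hinj 0 (by omega) 1 (by omega) h; omega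
  have ne02 : π 0 ≠ π 2 := fun h => by have := hinj 0 (by omega) 2 (by omega) h; omega
  have ne12 : π 1 ≠ π 2 := fun h => by have := hinj 1 (by omega) 2 (by omega) h; omega
  have ne13 : π 1 ≠ π 3 := fun h => by have := hinj 1 (by omega) 3 (by omega) h; omega
  have ne23 : π 2 ≠ π 3 := fun h => by have := hinj 2 (by omega) 3 (by omega) h; omega
  have ne03 : π 0 ≠ π 3 := fun h => by have := hinj 0 (by omega) 3 (by omega) h; omega
  have a01 : π 0 + 1 = π 1 ∨ π 1 + 1 = π 0 := hadj 0 (by omega)
  have a12 : π 1 + 1 = π 2 ∨ π 2 + 1 = π 1 := hadj 1 (by omega)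
  have a23 : π 2 + 1 = π 3 ∨ π 3 + 1 = π 2 := hadj 2 (by omega)
  intro i
  induction i using Nat.strong_induction_on with
  | _ i ih =>
    intro hi
    by_cases hsm : i ≤ 3
    · have : i = 0 ∨ i = 1 ∨ i = 2 ∨ i = 3 := by omega
      rcases this with rfl | rfl | rfl | rfl <;> omega
    · obtain ⟨j, rfl⟩ := Nat.exists_eq_add_of_le' (show 2 ≤ i by omega)
      have h1 := ih j (by omega) (by omega)
      have h2 := ih (j + 1) (by omega) (by omega)
      have h3 : π (j + 1) + 1 = π (j + 2) ∨ π (j + 2) + 1 = π (j + 1) := hadj (j + 1) (by omega)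
      have h4 : π j ≠ π (j + 2) := fun h => by have := hinj j (by omega) (j + 2) hi h; omega
      omega

theorem exists_asym_elementary {F : Type u} [AddCommGroup F] [Finite F] {K : Type v} [Field K]
    [Finite K] {a : K} (ha0 : a ≠ 0) (ha1 : a ≠ 1) (r : ℕ) [Fact r.Prime]
    (hF : ∀ y : F, r • y = 0) (hrq : Nontrivial F → r ∣ Nat.card K - 1) :
    ∃ (S E : Set F) (c : F → K), IsAsym a S E c := by
  classical
  have hr := (Fact.out : r.Prime)
  haveI : Module (ZMod r) F := AddCommGroup.zmodModule hF
  haveI : Module.Finite (ZMod r) F := Module.Finite.of_finite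
  set n := Module.finrank (ZMod r) F with hn
  let b := Module.finBasis (ZMod r) F
  have hclos : AddSubgroup.closure (Set.range b) = ⊤ := by
    refine eq_top_iff.2 fun y _ => ?_
    rw [← b.sum_repr y]
    refine sum_mem fun i _ => ?_
    rw [← ZMod.natCast_zmod_val (b.repr y i), Nat.cast_smul_eq_nsmul]
    exact AddSubgroup.nsmul_mem _ (AddSubgroup.subset_closure (Set.mem_range_self i)) _
  have hb0 : ∀ i, b i ≠ 0 := b.ne_zero
  have hbinj := b.injective
  let σ : Finset (Fin n) → F := fun s => ∑ i ∈ s, b i
  have hcoord : ∀ (s : Finset (Fin n)) (j : Fin n), b.repr (σ s) j = if j ∈ s then 1 else 0 := by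
    intro s j
    simp [σ, map_sum, Finsupp.single_apply, Finset.sum_ite_eq']
  have hσ : Function.Injective σ := fun s t h => by
    ext j
    have := congrArg (fun y => b.repr y j) h
    simp only [hcoord] at this
    by_cases h1 : j ∈ s <;> by_cases h2 : j ∈ t <;> simp_all
  by_cases hbig : 4 ≤ n
  · -- path and triangle
    let 𝓑 : Finset (Fin n) → Prop := fun s =>
      (∃ i j : Fin n, (i : ℕ) + 1 = j ∧ s = {i, j}) ∨
        s = Finset.univ.filter (fun i : Fin n => (i : ℕ) < 3)
    have hcard : ∀ s, 𝓑 s → 2 ≤ s.card := by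
      rintro s (⟨i, j, hij, rfl⟩ | rfl)
      · rw [Finset.card_pair (fun h => by rw [h] at hij; omega)]
      · have hsub : ({⟨0, by omega⟩, ⟨1, by omega⟩} : Finset (Fin n)) ⊆
            Finset.univ.filter (fun i : Fin n => (i : ℕ) < 3) := by
          intro x hx
          simp only [Finset.mem_insert, Finset.mem_singleton] at hx
          rcases hx with rfl | rfl <;> simp
        refine le_trans (le_of_eq ?_) (Finset.card_le_card hsub)
        rw [Finset.card_pair (fun h => by simp [Fin.ext_iff] at h)]
    have hbB : ∀ i s, 𝓑 s → b i ≠ σ s := fun i s hs h => by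
      have h1 : σ {i} = σ s := by simpa [σ] using h
      have := hcard s hs
      rw [← hσ h1, Finset.card_singleton] at this
      omega
    have hσ0 : ∀ s, 𝓑 s → σ s ≠ 0 := fun s hs h => by
      have := hcard s hs
      rw [hσ (h.trans (Finset.sum_empty).symm : σ s = σ ∅), Finset.card_empty] at this
      omega
    let c : F → K := fun y => if y = 0 then a else if y ∈ Set.range b then 1
      else if (∃ s, 𝓑 s ∧ σ s = y) then a else 0
    refine ⟨Set.univ, Set.range b, c, hclos, trivial, Set.subset_univ _, fun _ _ _ _ => trivial,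
      if_pos rfl, fun h _ hcol _ => ?_⟩
    have hcb : ∀ y, c y = 1 → y ∈ Set.range b := by
      intro y hy
      simp only [c] at hy
      split_ifs at hy with h1 h2 h3
      · exact absurd hy ha1
      · exact h2
      · exact absurd hy ha1
      · exact absurd hy zero_ne_one
    have hcB : ∀ y, y ≠ 0 → c y = a → ∃ s, 𝓑 s ∧ σ s = y := by
      intro y h0 hy
      simp only [c, if_neg h0] at hy
      split_ifs at hy with h2 h3
      · exact absurd hy.symm ha1
      · exact h3
      · exact absurd hy.symm ha0
    have hex : ∀ i, ∃ j, b j = h (b i) := fun i => hcb _ (by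
      rw [hcol _ trivial]; simp [c, hb0 i])
    choose π hπ using hex
    have hπinj : Function.Injective π := fun i j hij => hbinj (h.injective (by rw [← hπ, ← hπ, hij]))
    have hsub : ∀ s, h (σ s) = σ (s.image π) := fun s => by
      simp only [σ]
      rw [map_sum, Finset.sum_image fun _ _ _ _ e => hπinj e]
      exact Finset.sum_congr rfl fun i _ => (hπ i).symm
    have himg : ∀ s, 𝓑 s → 𝓑 (s.image π) := by
      intro s hs
      have hnot : σ s ∉ Set.range b := fun ⟨i, hi⟩ => hbB i s hs hi
      have hca : c (h (σ s)) = a := by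
        rw [hcol _ trivial]
        show (if σ s = 0 then a else _) = a
        rw [if_neg (hσ0 s hs), if_neg hnot, if_pos ⟨s, hs, rfl⟩]
      obtain ⟨t, ht, hts⟩ := hcB _ (fun h0 => hσ0 s hs (h.injective (h0.trans (map_zero h).symm))) hca
      rw [hsub] at hts
      exact hσ hts ▸ ht
    let T3 : Finset (Fin n) := Finset.univ.filter fun i : Fin n => (i : ℕ) < 3
    have hT3 : T3.card = 3 := by
      have : T3 = ({⟨0, by omega⟩, ⟨1, by omega⟩, ⟨2, by omega⟩} : Finset (Fin n)) := by
        ext x
        simp only [T3, Finset.mem_filter, Finset.mem_univ, true_and, Finset.mem_insert,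
          Finset.mem_singleton, Fin.ext_iff]
        omega
      rw [this, Finset.card_insert_of_notMem (by simp [Fin.ext_iff]),
        Finset.card_pair (by simp [Fin.ext_iff])]
    let πn : ℕ → ℕ := fun i => if hi : i < n then (π ⟨i, hi⟩ : ℕ) else 0
    have hπn : ∀ i (hi : i < n), πn i = (π ⟨i, hi⟩ : ℕ) := fun i hi => dif_pos hi
    have hfix := path_rigid hbig πn (fun i hi => by rw [hπn i hi]; exact (π _).2)
      (fun i hi j hj e => by
        rw [hπn i hi, hπn j hj] at e
        exact congrArg Fin.val (hπinj (Fin.ext e)))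
      (fun i hi => by
        rw [hπn i (by omega), hπn (i + 1) hi]
        rcases himg {⟨i, by omega⟩, ⟨i + 1, hi⟩} (Or.inl ⟨_, _, rfl, rfl⟩) with ⟨x, y, hxy, he⟩ | he
        · rw [Finset.image_insert, Finset.image_singleton] at he
          have hx : x ∈ ({π ⟨i, by omega⟩, π ⟨i + 1, hi⟩} : Finset (Fin n)) := he ▸ by simp
          have hy : y ∈ ({π ⟨i, by omega⟩, π ⟨i + 1, hi⟩} : Finset (Fin n)) := he ▸ by simp
          simp only [Finset.mem_insert, Finset.mem_singleton] at hx hy
          rcases hx with hx | hx <;> rcases hy with hy | hy <;> rw [hx, hy] at hxy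
          · omega
          · left; exact hxy
          · right; exact hxy
          · omega
        · exfalso
          have h1 := Finset.card_image_of_injective ({⟨i, by omega⟩, ⟨i + 1, hi⟩} : Finset (Fin n)) hπinj
          rw [he, Finset.card_pair (by simp [Fin.ext_iff])] at h1
          change T3.card = 2 at h1
          omega)
      (fun i hi => by
        rw [hπn i (by omega)]
        rcases himg T3 (Or.inr rfl) with ⟨x, y, hxy, he⟩ | he
        · exfalso
          have h1 := Finset.card_image_of_injective T3 hπinj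
          rw [he, Finset.card_pair (fun e => by rw [e] at hxy; omega), hT3] at h1
          omega
        · have hm : π ⟨i, by omega⟩ ∈ T3.image π :=
            Finset.mem_image_of_mem _ (by simp [T3, hi])
          rw [he] at hm
          simpa using hm)
    refine fixed_of_closure hclos h ?_
    rintro _ ⟨i, rfl⟩
    have := hfix i i.2
    rw [hπn i i.2] at this
    rw [← hπ, show π i = i from Fin.ext this]
  by_cases hspec : n = 3 ∧ r = 2
  · obtain ⟨hn3, hr2⟩ := hspec
    have h3 : 3 ≤ n := hn3.ge
    let i0 : Fin n := ⟨0, by omega⟩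
    let i1 : Fin n := ⟨1, by omega⟩
    let i2 : Fin n := ⟨2, by omega⟩
    let z₀ : F := σ Finset.univ
    have hz : ∀ s : Finset (Fin n), s ≠ Finset.univ → σ s ≠ z₀ := fun s hs h => hs (hσ h)
    have hne1 : ∀ i, b i ≠ z₀ := fun i => by
      have h := hz {i} (fun h => by
        have := congrArg Finset.card h
        rw [Finset.card_singleton, Finset.card_univ, Fintype.card_fin] at this
        omega)
      simpa [σ] using h
    have h01 : b i0 ≠ b i1 := fun h => by simpa [i0, i1, Fin.ext_iff] using hbinj h
    let c : F → K := fun y => if y = 0 ∨ y = b i1 then a else if y = b i0 then 1 else 0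
    refine ⟨{z₀}ᶜ, Set.range b, c, hclos, ?_, ?_, ?_, if_pos (Or.inl rfl),
      fun h hS hcol _ => ?_⟩
    · intro h
      have := hz ∅ (fun e => by
        have := congrArg Finset.card e
        rw [Finset.card_empty, Finset.card_univ, Fintype.card_fin] at this
        omega)
      exact this (by simpa [σ] using (Set.mem_singleton_iff.1 h))
    · rintro _ ⟨i, rfl⟩
      exact hne1 i
    · rintro _ ⟨i, rfl⟩ _ ⟨j, rfl⟩
      by_cases hij : i = j
      · subst hij
        intro h
        have h2 : b i + b i = 0 := by rw [← two_nsmul, ← hr2]; exact hF _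
        have := hz ∅ (fun e => by
        have := congrArg Finset.card e
        rw [Finset.card_empty, Finset.card_univ, Fintype.card_fin] at this
        omega)
        exact this (by rw [← Set.mem_singleton_iff.1 h, h2]; simp [σ])
      · intro h
        refine hz {i, j} (fun e => ?_) (by
          show ∑ k ∈ ({i, j} : Finset (Fin n)), b k = z₀
          rw [Finset.sum_pair hij]
          exact h)
        have := congrArg Finset.card e
        rw [Finset.card_pair hij, Finset.card_univ, Fintype.card_fin] at this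
        omega
    · have hz0 : h z₀ = z₀ := by
        by_contra hne
        exact ((hS z₀).1 hne) rfl
      have hb1 : h (b i1) = b i1 := by
        have h1 := hcol (b i1) (hne1 i1)
        have hnz : h (b i1) ≠ 0 := fun e => hb0 i1 (h.injective (e.trans (map_zero h).symm))
        simp only [c, hb0 i1, hnz, false_or, if_true] at h1
        split_ifs at h1 with e1 e2
        · exact e1
        · exact absurd h1.symm ha1
        · exact absurd h1.symm ha0
      have hb00 : h (b i0) = b i0 := by
        have h1 := hcol (b i0) (hne1 i0)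
        simp only [c, hb0 i0, h01, false_or, if_false, if_true] at h1
        split_ifs at h1 with e1 e2
        · exact absurd h1 ha1
        · exact e2
        · exact absurd h1 zero_ne_one
      have hb2 : h (b i2) = b i2 := by
        have hsum : z₀ = b i0 + b i1 + b i2 := by
          have : (Finset.univ : Finset (Fin n)) = {i0, i1, i2} := by
            ext x
            simp only [Finset.mem_univ, true_iff, Finset.mem_insert, Finset.mem_singleton, Fin.ext_iff,
              i0, i1, i2]
            omega
          show σ Finset.univ = _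
          simp only [σ, this]
          rw [Finset.sum_insert (by simp [i0, i1, i2, Fin.ext_iff]),
            Finset.sum_pair (by simp [i1, i2, Fin.ext_iff]), add_assoc]
        rw [hsum, map_add, map_add, hb00, hb1] at hz0
        exact add_left_cancel hz0
      refine fixed_of_closure hclos h ?_
      rintro _ ⟨i, rfl⟩
      have : i = i0 ∨ i = i1 ∨ i = i2 := by simp only [i0, i1, i2, Fin.ext_iff]; omega
      rcases this with rfl | rfl | rfl
      exacts [hb00, hb1, hb2]
  -- few basis vectors, all of different colours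
  obtain ⟨γ, hγinj, hγ0⟩ : ∃ γ : Fin n → K, Function.Injective γ ∧ ∀ i, γ i ≠ 0 := by
    haveI := Fintype.ofFinite K
    obtain ⟨f⟩ : Nonempty (Fin n ↪ Kˣ) := by
      refine Function.Embedding.nonempty_of_card_le ?_
      rw [Fintype.card_fin, ← Nat.card_eq_fintype_card, Nat.card_units]
      have h3 : 3 ≤ Nat.card K := by
        have h1 : ({0, 1, a} : Finset K).card = 3 := Finset.card_eq_three.2
          ⟨0, 1, a, zero_ne_one, ha0.symm, ha1.symm, rfl⟩
        rw [Nat.card_eq_fintype_card, ← h1]
        exact Finset.card_le_univ _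
      by_cases hn3 : n = 3
      · have hr3 : 3 ≤ r := by
          have := hr.two_le
          rcases eq_or_ne r 2 with h | h
          · exact absurd ⟨hn3, h⟩ hspec
          · omega
        have hnt : Nontrivial F := Module.nontrivial_of_finrank_pos (R := ZMod r) (by omega)
        have := Nat.le_of_dvd (by omega) (hrq hnt)
        omega
      · omega
    exact ⟨fun i => (f i : K), fun i j e => f.injective (Units.ext e), fun i => (f i).ne_zero⟩
  let c : F → K := fun y => if y = 0 then a else if hy : ∃ i, b i = y then γ hy.choose else 0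
  refine ⟨Set.univ, Set.range b, c, hclos, trivial, Set.subset_univ _, fun _ _ _ _ => trivial,
    if_pos rfl, fun h _ hcol _ => fixed_of_closure hclos h ?_⟩
  rintro _ ⟨i, rfl⟩
  have h1 : c (h (b i)) = γ i := by
    rw [hcol _ trivial]
    simp only [c, if_neg (hb0 i)]
    have he : ∃ j, b j = b i := ⟨i, rfl⟩
    rw [dif_pos he, hbinj he.choose_spec]
  have hnz : h (b i) ≠ 0 := fun e => hb0 i (h.injective (e.trans (map_zero h).symm))
  simp only [c, if_neg hnz] at h1
  by_cases he : ∃ j, b j = h (b i)
  · rw [dif_pos he] at h1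
    rw [← he.choose_spec, hγinj h1]
  · rw [dif_neg he] at h1
    exact absurd h1.symm (hγ0 i)

theorem closure_prime_order {F : Type u} [AddCommGroup F] [Finite F]
    (hsf : ∀ (r : ℕ), r.Prime → ∀ x : F, r • r • x = 0 → r • x = 0) (y : F) :
    y ∈ AddSubgroup.closure {x : F | ∃ r : ℕ, r.Prime ∧ r • x = 0} := by
  suffices h : ∀ (m : ℕ) (y : F), addOrderOf y = m →
      y ∈ AddSubgroup.closure {x : F | ∃ r : ℕ, r.Prime ∧ r • x = 0} from h _ y rfl
  intro m
  induction m using Nat.strong_induction_on with
  | _ m ih =>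
    intro y hy
    by_cases h1 : m = 1
    · rw [AddMonoid.addOrderOf_eq_one_iff.1 (hy.trans h1)]; exact zero_mem _
    obtain ⟨r, hr, k, rfl⟩ := Nat.exists_prime_and_dvd h1
    have hpos : 0 < r * k := hy ▸ addOrderOf_pos y
    have hk0 : 0 < k := Nat.pos_of_mul_pos_left hpos
    have hzero : (r * k) • y = 0 := hy ▸ addOrderOf_nsmul_eq_zero y
    have hcop : r.Coprime k := (Nat.Prime.coprime_iff_not_dvd hr).2 (by
      rintro ⟨j, rfl⟩
      have hj : r • r • (j • y) = 0 := by rw [← mul_smul, ← mul_smul]; rw [mul_assoc]; exact hzero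
      have h2 := hsf r hr _ hj
      rw [← mul_smul] at h2
      have h3 := Nat.le_of_dvd (Nat.mul_pos hr.pos (Nat.pos_of_mul_pos_left hk0))
        (hy ▸ addOrderOf_dvd_of_nsmul_eq_zero h2)
      have := hr.two_le
      nlinarith [Nat.pos_of_mul_pos_left hk0])
    have hbez : (1 : ℤ) = r * r.gcdA k + k * r.gcdB k := by
      rw [← Nat.gcd_eq_gcd_ab, hcop]; rfl
    have hy' : y = r.gcdA k • (r • y) + r.gcdB k • (k • y) := by
      conv_lhs => rw [← one_zsmul y, hbez]
      rw [add_zsmul, mul_zsmul', mul_zsmul', natCast_zsmul, natCast_zsmul]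
    rw [hy']
    refine add_mem (AddSubgroup.zsmul_mem _ ?_ _) (AddSubgroup.zsmul_mem _ ?_ _)
    · refine ih (addOrderOf (r • y)) ?_ _ rfl
      refine lt_of_le_of_lt (Nat.le_of_dvd hk0 (addOrderOf_dvd_of_nsmul_eq_zero ?_))
        (lt_mul_of_one_lt_left hk0 hr.one_lt)
      rw [← mul_smul, mul_comm]; exact hzero
    · exact AddSubgroup.subset_closure ⟨r, hr, by rw [← mul_smul]; exact hzero⟩

theorem exists_asym_colouring {F : Type u} [AddCommGroup F] [Finite F] {K : Type v} [Field K]
    [Finite K] {a : K} (ha0 : a ≠ 0) (ha1 : a ≠ 1)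
    (hsf : ∀ (r : ℕ), r.Prime → ∀ x : F, r • r • x = 0 → r • x = 0)
    (hrq : ∀ r : ℕ, r.Prime → r ∣ Nat.card F → r ∣ Nat.card K - 1) :
    ∃ (S E : Set F) (c : F → K), IsAsym a S E c := by
  classical
  let P : Nat.Primes → AddSubgroup F := fun r => (nsmulAddMonoidHom (α := F) (r : ℕ)).ker
  have hmem : ∀ (r : Nat.Primes) (y : F), y ∈ P r ↔ (r : ℕ) • y = 0 := fun r y => Iff.rfl
  have hdata : ∀ r : Nat.Primes, ∃ (S E : Set (P r)) (c : P r → K), IsAsym a S E c := by
    intro r
    haveI := Fact.mk r.2
    refine exists_asym_elementary ha0 ha1 r (fun y => Subtype.ext y.2) fun hnt => ?_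
    obtain ⟨⟨y, hy⟩, hy0⟩ := exists_ne (0 : P r)
    refine hrq r r.2 ?_
    have h1 : addOrderOf y = r := addOrderOf_eq_prime hy fun h => hy0 (Subtype.ext h)
    rw [← h1]
    exact addOrderOf_dvd_natCard y
  choose S E c hasym using hdata
  have huniq : ∀ (r r' : Nat.Primes) (y : F), y ∈ P r → y ∈ P r' → y ≠ 0 → r = r' := by
    intro r r' y h1 h2 hy
    haveI := Fact.mk r.2
    haveI := Fact.mk r'.2
    exact Subtype.ext ((addOrderOf_eq_prime h1 hy).symm.trans (addOrderOf_eq_prime h2 hy))
  let C : F → K := fun y =>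
    if y = 0 then a else if h : ∃ r, y ∈ P r then c h.choose ⟨y, h.choose_spec⟩ else 0
  have hC : ∀ (r : Nat.Primes) (y : P r), C (y : F) = c r y := by
    intro r y
    by_cases hy : (y : F) = 0
    · rw [show C (y : F) = a from if_pos hy, show y = 0 from Subtype.ext hy, (hasym r).colour_zero]
    · simp only [C, if_neg hy]
      have he : ∃ r, (y : F) ∈ P r := ⟨r, y.2⟩
      rw [dif_pos he]
      have key : ∀ (r' : Nat.Primes) (h : (y : F) ∈ P r'), r' = r → c r' ⟨y, h⟩ = c r y := by
        rintro r' h rfl; rfl
      exact key _ _ (huniq _ r _ he.choose_spec y.2 hy)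
  let S' : Set F := {y | ∀ (r : Nat.Primes) (h : y ∈ P r), (⟨y, h⟩ : P r) ∈ S r}
  let E' : Set F := {y | ∃ (r : Nat.Primes) (h : y ∈ P r), (⟨y, h⟩ : P r) ∈ E r}
  refine ⟨S', E', C, ⟨?_, ?_, ?_, ?_, if_pos rfl, ?_⟩⟩
  · refine eq_top_iff.2 fun y _ => ?_
    refine (AddSubgroup.closure_le _).2 ?_ (closure_prime_order hsf y)
    rintro x ⟨r, hr, hx⟩
    obtain ⟨rr, hrr⟩ : ∃ rr : Nat.Primes, (rr : ℕ) = r := ⟨⟨r, hr⟩, rfl⟩
    subst hrr
    have hx' : (⟨x, hx⟩ : P rr) ∈ AddSubgroup.closure (E rr) := by
      rw [(hasym rr).closure_eq]; trivial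
    have h1 := AddSubgroup.mem_map_of_mem (P rr).subtype hx'
    rw [AddMonoidHom.map_closure] at h1
    exact AddSubgroup.closure_mono (by rintro _ ⟨e, he, rfl⟩; exact ⟨_, e.2, he⟩) h1
  · exact fun r h => (hasym r).zero_mem
  · rintro y ⟨r, hy, hyE⟩ r' hy'
    by_cases h0 : y = 0
    · subst h0; exact (hasym r').zero_mem
    · obtain rfl := huniq r r' y hy hy' h0
      exact (hasym r).subset hyE
  · rintro y ⟨r, hy, hyE⟩ z ⟨r', hz, hzE⟩ s hs
    by_cases hy0 : y = 0
    · subst hy0
      rw [show (⟨0 + z, hs⟩ : P s) = ⟨z, by simpa using hs⟩ from Subtype.ext (zero_add z)]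
      by_cases hz0 : z = 0
      · subst hz0; exact (hasym s).zero_mem
      · obtain rfl := huniq r' s z hz (by simpa using hs) hz0
        exact (hasym r').subset hzE
    by_cases hz0 : z = 0
    · subst hz0
      rw [show (⟨y + 0, hs⟩ : P s) = ⟨y, by simpa using hs⟩ from Subtype.ext (add_zero y)]
      obtain rfl := huniq r s y hy (by simpa using hs) hy0
      exact (hasym r).subset hyE
    by_cases hrr : r = r'
    · subst hrr
      by_cases hsum : y + z = 0
      · rw [show (⟨y + z, hs⟩ : P s) = 0 from Subtype.ext hsum]; exact (hasym s).zero_mem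
      · obtain rfl := huniq r s (y + z) ((P r).add_mem hy hz) hs hsum
        exact (hasym r).add_mem _ hyE _ hzE
    exfalso
    have hsy : (s : ℕ) • y + (s : ℕ) • z = 0 := by rw [← nsmul_add]; exact hs
    have h1 : (s : ℕ) • y = 0 := by
      by_contra h
      refine hrr (huniq r r' _ ((P r).nsmul_mem hy _) ?_ h)
      rw [eq_neg_of_add_eq_zero_left hsy]
      exact (P r').neg_mem ((P r').nsmul_mem hz _)
    rw [h1, zero_add] at hsy
    exact hrr ((huniq r s y hy h1 hy0).trans (huniq r' s z hz hsy hz0).symm)
  · intro h hS hcol hzero y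
    refine fixed_of_closure (E := {x : F | ∃ r : ℕ, r.Prime ∧ r • x = 0})
      (eq_top_iff.2 fun x _ => closure_prime_order hsf x) h ?_ y
    rintro x ⟨r, hr, hx⟩
    set rr : Nat.Primes := ⟨r, hr⟩
    let hr' : P rr ≃+ P rr :=
      { toFun := fun z => ⟨h z, by rw [hmem, ← map_nsmul, (hmem _ _).1 z.2, map_zero]⟩
        invFun := fun z => ⟨h.symm z, by rw [hmem, ← map_nsmul, (hmem _ _).1 z.2, map_zero]⟩
        left_inv := fun z => Subtype.ext (h.symm_apply_apply _)
        right_inv := fun z => Subtype.ext (h.apply_symm_apply _)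
        map_add' := fun z w => Subtype.ext (map_add h _ _) }
    have hSr : ∀ z : P rr, ((z : F) ∈ S' ↔ z ∈ S rr) := by
      intro z
      refine ⟨fun hz => hz rr z.2, fun hz r' hz' => ?_⟩
      by_cases h0 : (z : F) = 0
      · rw [show (⟨(z : F), hz'⟩ : P r') = 0 from Subtype.ext h0]; exact (hasym r').zero_mem
      · obtain rfl := huniq rr r' _ z.2 hz' h0
        exact hz
    have hres := (hasym rr).rigid hr' (fun z => by rw [← hSr, ← hSr]; exact hS z)
      (fun z hz => by rw [← hC, ← hC]; exact hcol z ((hSr z).2 hz))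
      (fun z => by rw [← hC, ← hC]; exact hzero z) ⟨x, hx⟩
    exact congrArg Subtype.val hres

end Cfsg.Agent.BaseThree
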