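import Cfsg.Agent.Lib.OddBaseTwo.Basic

/-!
# Bases of size three: basic notions

* `HasBase3 A V`: three vectors such that what fixes all three fixes everything.
* `hasBase3_of_complement`: the statement passes to a direct sum of two invariant subgroups.
-/

set_option autoImplicit false
set_option linter.style.haveILetI false

namespace Cfsg.Agent.BaseThree

open OddBaseTwo

universe u v

/-- Three vectors whose common stabiliser acts trivially. -/
def HasBase3 (A : Type u) [Group A] (V : Type v) [AddCommGroup V] [DistribMulAction A V] : Prop :=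
  ∃ x y z : V, ∀ a : A, a • x = x → a • y = y → a • z = z → ∀ t : V, a • t = t

/-- The statement for all completely reducible solvable groups on smaller modules. -/
def BaseBelow3 (n : ℕ) : Prop :=
  ∀ (A : Type u) [Group A] [Finite A] (V : Type u) [AddCommGroup V] [Finite V]
    [DistribMulAction A V], Nat.card V < n → Group.IsSolvable A → IsCR A V → HasBase3 A V

variable {A : Type u} [Group A] {V : Type v} [AddCommGroup V] [DistribMulAction A V]

theorem hasBase3_of_complement {U W : AddSubgroup V} (hU : IsInv A V U) (hW : IsInv A V W)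
    (h1 : U ⊓ W = ⊥) (h2 : U ⊔ W = ⊤)
    (hbU : letI := subAction U hU; HasBase3 A U) (hbW : letI := subAction W hW; HasBase3 A W) :
    HasBase3 A V := by
  obtain ⟨u₁, u₂, u₃, hu⟩ := hbU
  obtain ⟨w₁, w₂, w₃, hw⟩ := hbW
  refine ⟨(u₁ : V) + w₁, (u₂ : V) + w₂, (u₃ : V) + w₃, fun a ha1 ha2 ha3 z => ?_⟩
  rw [smul_add] at ha1 ha2 ha3
  obtain ⟨e1, e2⟩ := decomp_unique h1 (hU a _ u₁.2) (hW a _ w₁.2) u₁.2 w₁.2 ha1
  obtain ⟨e3, e4⟩ := decomp_unique h1 (hU a _ u₂.2) (hW a _ w₂.2) u₂.2 w₂.2 ha2
  obtain ⟨e5, e6⟩ := decomp_unique h1 (hU a _ u₃.2) (hW a _ w₃.2) u₃.2 w₃.2 ha3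
  obtain ⟨y, hy, x, hx, rfl⟩ := exists_add_of_sup_eq_top h2 z
  rw [smul_add, show a • y = y from congrArg Subtype.val
      (hu a (Subtype.ext e1) (Subtype.ext e3) (Subtype.ext e5) ⟨y, hy⟩),
    show a • x = x from congrArg Subtype.val
      (hw a (Subtype.ext e2) (Subtype.ext e4) (Subtype.ext e6) ⟨x, hx⟩)]

end Cfsg.Agent.BaseThree
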