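import Cfsg.Agent.Lib.BaseThree.Basic
import Cfsg.Agent.Lib.OddBaseTwo.Subsets
import Mathlib.Data.ZMod.Basic
import Mathlib.Algebra.Field.ZMod
import Mathlib.Tactic.IntervalCases
import Mathlib.Tactic.NormNum.Prime

/-!
# Five inequivalent asymmetric colourings with five colours

`exists_five_colourings`: a solvable group acting on fewer than `n` points has five pairwise
inequivalent colourings with five colours, each fixed only by what fixes every point, given bases of
size three for modules of order below `n`.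
-/

set_option autoImplicit false
set_option linter.style.haveILetI false

namespace Cfsg.Agent.BaseThree

open OddBaseTwo MulAction

universe u

/-- Five colourings, pairwise inequivalent, each with trivial stabiliser. -/
def IsFiveColourings (G : Type u) [Group G] {X : Type u} [MulAction G X]
    (c : ZMod 5 → X → ZMod 5) : Prop :=
  ∀ (i j : ZMod 5) (g : G), (∀ x, c j (g • x) = c i x) → i = j ∧ ∀ x : X, g • x = x

theorem colour_translate {X : Type u} [Finite X] {d : ℕ} (hd : Nat.card X = d) (h1 : 1 ≤ d)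
    (h4 : d ≤ 4) (f : X → ZMod 5) {i j : ZMod 5} (σ : Equiv.Perm X)
    (h : ∀ x, j + f (σ x) = i + f x) : i = j := by
  haveI := Fintype.ofFinite X
  have hs : ∑ x, (j + f (σ x)) = ∑ x, (i + f x) := Finset.sum_congr rfl fun x _ => h x
  rw [Finset.sum_add_distrib, Finset.sum_add_distrib, Equiv.sum_comp σ f, add_left_inj,
    Finset.sum_const, Finset.sum_const, Finset.card_univ, ← Nat.card_eq_fintype_card, hd] at hs
  interval_cases d <;> clear h <;> revert hs <;> revert i j <;> decide

/-- The affine case. -/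
theorem exists_colourings_primitive {n : ℕ} (hB : BaseBelow3.{u} n) {G : Type u} [Group G]
    [Finite G] {X : Type u} [Finite X] [MulAction G X] [FaithfulSMul G X] [IsPretransitive G X]
    (hsol : Group.IsSolvable G) {x₀ : X} (hmax : IsCoatom (stabilizer G x₀)) (hX : Nat.card X < n) :
    ∃ c : ZMod 5 → X → ZMod 5, IsFiveColourings G c := by
  classical
  haveI := hsol
  have hsol' : Group.IsSolvable (⊤ : Subgroup G) := inferInstance
  have htop : (⊤ : Subgroup G) ≠ ⊥ := fun h => hmax.1 (eq_top_iff.2 (h.trans_le bot_le))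
  obtain ⟨M, p, hMn, -, hMne, hmin, hMc, -, -⟩ := Solvable.exists_abelian_minimal_normal hsol' htop
  haveI := hMn
  haveI := hMc
  have hMH : ¬ M ≤ stabilizer G x₀ := fun h => hMne ((Subgroup.eq_bot_iff_forall M).2 fun m hm =>
    eq_of_smul_eq_smul fun x : X => by
      obtain ⟨g, rfl⟩ := exists_smul_eq G x₀ x
      have h1 := mem_stabilizer_iff.1 (h (hMn.conj_mem m hm g⁻¹))
      rw [inv_inv, mul_smul, mul_smul, inv_smul_eq_iff] at h1
      rw [one_smul, h1])
  have hsup : M ⊔ stabilizer G x₀ = ⊤ := hmax.2 _ (right_lt_sup.2 hMH)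
  have hdec : ∀ g : G, ∃ m ∈ M, ∃ h ∈ stabilizer G x₀, m * h = g := fun g =>
    Subgroup.mem_sup_of_normal_left.1 (hsup ▸ Subgroup.mem_top g)
  have hsurj : ∀ x : X, ∃ m : M, (m : G) • x₀ = x := fun x => by
    obtain ⟨g, rfl⟩ := exists_smul_eq G x₀ x
    obtain ⟨m, hm, h, hh, rfl⟩ := hdec g
    exact ⟨⟨m, hm⟩, by rw [mul_smul, mem_stabilizer_iff.1 hh]⟩
  have hcomm : ∀ a b : M, a * b = b * a := fun a b => mul_comm' a b
  have hinj : ∀ a b : M, (a : G) • x₀ = (b : G) • x₀ → a = b := fun a b hab => by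
    refine inv_mul_eq_one.1 (Subtype.ext (eq_of_smul_eq_smul fun x : X => ?_))
    obtain ⟨c, rfl⟩ := hsurj x
    rw [Subgroup.coe_one, one_smul, ← mul_smul, ← Subgroup.coe_mul, hcomm, Subgroup.coe_mul, mul_smul,
      Subgroup.coe_mul, mul_smul, Subgroup.coe_inv, ← hab, inv_smul_smul]
  set H := stabilizer G x₀ with hH
  letI : CommGroup M := { (inferInstance : Group M) with mul_comm := hcomm }
  let φ : H →* MulAut M := MulAut.conjNormal.comp H.subtype
  letI act : DistribMulAction H (Additive M) :=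
    { smul := fun h a => Additive.ofMul (φ h a.toMul)
      one_smul := fun a => by
        show Additive.ofMul (φ 1 a.toMul) = a
        rw [map_one]; rfl
      mul_smul := fun h h' a => by
        show Additive.ofMul (φ (h * h') a.toMul) = Additive.ofMul (φ h (φ h' a.toMul))
        rw [map_mul]; rfl
      smul_zero := fun h => by
        show Additive.ofMul (φ h 1) = Additive.ofMul (1 : M)
        rw [map_one]
      smul_add := fun h a b => by
        show Additive.ofMul (φ h (a.toMul * b.toMul)) = Additive.ofMul (φ h a.toMul * φ h b.toMul)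
        rw [map_mul] }
  have hmove : ∀ (h : H) (a : M), (h : G) • (a : G) • x₀ = ((φ h a : M) : G) • x₀ := fun h a => by
    show _ = ((h : G) * a * (h : G)⁻¹) • x₀
    rw [mul_smul, mul_smul, mem_stabilizer_iff.1 (inv_mem h.2)]
  have hirr : IsIrr H (Additive M) := by
    intro U hU
    let N : Subgroup G := (AddSubgroup.toSubgroup' U).map M.subtype
    have hNM : N ≤ M := by rintro _ ⟨a, -, rfl⟩; exact a.2
    have hNn : N.Normal := ⟨fun y hy g => by
      obtain ⟨a, ha, rfl⟩ := hy
      obtain ⟨m, hm, h, hh, rfl⟩ := hdec g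
      refine ⟨φ ⟨h, hh⟩ a, hU ⟨h, hh⟩ _ ha, ?_⟩
      show h * (a : G) * h⁻¹ = m * h * (a : G) * (m * h)⁻¹
      have h1 := congrArg Subtype.val (hcomm ⟨m, hm⟩ (φ ⟨h, hh⟩ a))
      change m * (h * (a : G) * h⁻¹) = h * (a : G) * h⁻¹ * m at h1
      rw [mul_inv_rev, show m * h * (a : G) * (h⁻¹ * m⁻¹) = m * (h * (a : G) * h⁻¹) * m⁻¹ by group, h1]
      group⟩
    rcases hmin N hNn hNM with h | h
    · left
      refine eq_bot_iff.2 fun a ha => AddSubgroup.mem_bot.2 ?_
      have h1 : ((a.toMul : M) : G) ∈ N := ⟨a.toMul, ha, rfl⟩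
      rw [h, Subgroup.mem_bot, OneMemClass.coe_eq_one] at h1
      exact congrArg Additive.ofMul h1
    · right
      refine eq_top_iff.2 fun a _ => ?_
      have h1 : ((a.toMul : M) : G) ∈ N := by rw [h]; exact SetLike.coe_mem _
      obtain ⟨b, hb, hba⟩ := h1
      have hb' : b = a.toMul := Subtype.ext hba
      subst hb'
      exact hb
  let e : Additive M ≃ X := Equiv.ofBijective (fun a : Additive M => ((a.toMul : M) : G) • x₀)
    ⟨fun a b hab => congrArg Additive.ofMul (hinj _ _ hab), fun x => by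
      obtain ⟨m, hm⟩ := hsurj x
      exact ⟨Additive.ofMul m, hm⟩⟩
  haveI : Finite (Additive M) := inferInstanceAs (Finite M)
  obtain ⟨va, wa, za, hb⟩ := hB H (Additive M) (lt_of_eq_of_lt (Nat.card_congr e) hX) inferInstance
    hirr.isCR
  have hfix : ∀ g : G, g • x₀ = x₀ → g • e va = e va → g • e wa = e wa → g • e za = e za →
      ∀ x : X, g • x = x := by
    intro g h0 h1 h2 h3 x
    let h : H := ⟨g, mem_stabilizer_iff.2 h0⟩
    have key : ∀ a, g • e a = e a → h • a = a := fun a ha =>
      congrArg Additive.ofMul (hinj _ _ ((hmove h a.toMul).symm.trans ha))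
    obtain ⟨m, rfl⟩ := hsurj x
    exact (hmove h m).trans (congrArg (fun b : M => (b : G) • x₀)
      (congrArg Additive.toMul (hb h (key va h1) (key wa h2) (key za h3) (Additive.ofMul m))))
  haveI := Fintype.ofFinite X
  by_cases hsmall : Nat.card X ≤ 4
  · obtain ⟨f⟩ : Nonempty (X ↪ ZMod 5) := Function.Embedding.nonempty_of_card_le (by
      rw [← Nat.card_eq_fintype_card, ZMod.card]; omega)
    refine ⟨fun i x => i + f x, fun i j g h => ?_⟩
    have hij := colour_translate rfl (Nat.one_le_iff_ne_zero.2 (Nat.card_ne_zero.2 ⟨⟨x₀⟩, inferInstance⟩))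
      hsmall f (MulAction.toPerm g) h
    subst hij
    exact ⟨rfl, fun x => f.injective (add_left_cancel (h x))⟩
  -- the special points
  obtain ⟨T, hT, hTcard, hTX⟩ : ∃ T : Finset X, (∀ g : G, (∀ x ∈ T, g • x = x) → ∀ x : X, g • x = x) ∧
      T.card ≤ 4 ∧ T.card + 2 ≤ Nat.card X := by
    by_cases h5 : Nat.card X = 5
    · obtain ⟨v, hv⟩ : ∃ v : M, v ≠ 1 := by
        by_contra! hall
        exact hMne ((Subgroup.eq_bot_iff_forall M).2 fun m hm => congrArg Subtype.val (hall ⟨m, hm⟩))
      refine ⟨{x₀, (v : G) • x₀}, fun g hg x => ?_, Finset.card_le_two.trans (by norm_num),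
        by have := Finset.card_le_two (a := x₀) (b := (v : G) • x₀); omega⟩
      let h : H := ⟨g, mem_stabilizer_iff.2 (hg x₀ (by simp))⟩
      have hgv : φ h v = v := hinj _ _ ((hmove h v).symm.trans (hg _ (by simp)))
      haveI : Fact (Nat.Prime 5) := ⟨by norm_num⟩
      obtain ⟨m, rfl⟩ := hsurj x
      obtain ⟨k, rfl⟩ := Subgroup.mem_zpowers_iff.1 (mem_zpowers_of_prime_card
        ((show Nat.card M = 5 from (Nat.card_congr (Additive.ofMul.trans e)).trans h5)) hv (g' := m))
      exact (hmove h (v ^ k)).trans (by rw [map_zpow, hgv])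
    · refine ⟨{x₀, e va, e wa, e za}, fun g hg => hfix g (hg _ (by simp)) (hg _ (by simp))
        (hg _ (by simp)) (hg _ (by simp)), Finset.card_le_four, ?_⟩
      have := Finset.card_le_four (a := x₀) (b := e va) (c := e wa) (d := e za)
      omega
  obtain ⟨f⟩ : Nonempty (T ↪ Fin 4) := Function.Embedding.nonempty_of_card_le (by simpa using hTcard)
  let col : X → ZMod 5 := fun x => if hx : x ∈ T then (((f ⟨x, hx⟩ : Fin 4) : ℕ) : ZMod 5) else 4
  have hcol : ∀ {x y : X}, x ∈ T → col x = col y → x = y := by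
    intro x y hx h
    simp only [col, dif_pos hx] at h
    have key : ∀ a b : Fin 4, ((a : ℕ) : ZMod 5) = ((b : ℕ) : ZMod 5) → a = b := by decide
    have key4 : ∀ a : Fin 4, ((a : ℕ) : ZMod 5) ≠ 4 := by decide
    by_cases hy : y ∈ T
    · rw [dif_pos hy] at h
      exact congrArg Subtype.val (f.injective (key _ _ h))
    · rw [dif_neg hy] at h
      exact absurd h (key4 _)
  refine ⟨fun i x => i + col x, fun i j g h => ?_⟩
  simp only at h
  have hij : i = j := by
    have hrest : 1 < (Finset.univ \ T).card := by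
      rw [Finset.card_sdiff_of_subset (Finset.subset_univ _), Finset.card_univ, ← Nat.card_eq_fintype_card]
      omega
    obtain ⟨a, ha, b, hb', hne⟩ := Finset.one_lt_card.1 hrest
    simp only [Finset.mem_sdiff, Finset.mem_univ, true_and] at ha hb'
    have ea : col a = 4 := dif_neg ha
    have eb : col b = 4 := dif_neg hb'
    have h1 := h a
    have h2 := h b
    rw [ea] at h1
    rw [eb, ← h1] at h2
    have hga : g • a ∉ T := fun hmem => hne (smul_left_cancel g (hcol hmem (add_left_cancel h2).symm))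
    rw [show col (g • a) = 4 from dif_neg hga] at h1
    exact (add_right_cancel h1).symm
  subst hij
  refine ⟨rfl, hT g fun x hx => ?_⟩
  exact (hcol hx (add_left_cancel (h x)).symm).symm

theorem exists_five_colourings_aux {n : ℕ} (hB : BaseBelow3.{u} n) :
    ∀ (N : ℕ) {G : Type u} [Group G] [Finite G] {X : Type u} [Finite X] [MulAction G X],
      Nonempty X → Group.IsSolvable G → Nat.card X = N → N < n →
      ∃ c : ZMod 5 → X → ZMod 5, IsFiveColourings G c := by
  intro N
  induction N using Nat.strong_induction_on with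
  | _ N ih =>
  intro G _ _ X _ _ hne hsol hN hNn
  classical
  haveI := hsol
  obtain ⟨x₀⟩ := hne
  by_cases htr : ∀ x : X, x ∈ orbit G x₀
  swap
  · -- intransitive
    push Not at htr
    obtain ⟨y, hy⟩ := htr
    let A : SubMulAction G X := ⟨orbit G x₀, fun g {x} hx => by
      rw [← orbit_eq_iff.2 hx]; exact mem_orbit x g⟩
    let B : SubMulAction G X := ⟨(orbit G x₀)ᶜ, fun g {x} hx h => hx (by
      have := A.smul_mem' g⁻¹ h
      rwa [inv_smul_smul] at this)⟩
    have hA : Nat.card A < N := hN ▸ card_lt_of_injective_notMem (Subtype.val)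
      Subtype.val_injective (b := y) (fun ⟨z, hz⟩ h => hy (h ▸ hz))
    have hB' : Nat.card B < N := hN ▸ card_lt_of_injective_notMem (Subtype.val)
      Subtype.val_injective (b := x₀) (fun ⟨z, hz⟩ h =>
        hz (by rw [show z = x₀ from h]; exact mem_orbit_self x₀))
    obtain ⟨c₁, hc₁⟩ := ih _ hA (G := G) (X := A) ⟨⟨x₀, mem_orbit_self x₀⟩⟩ hsol rfl (hA.trans hNn)
    obtain ⟨c₂, hc₂⟩ := ih _ hB' (G := G) (X := B) ⟨⟨y, hy⟩⟩ hsol rfl (hB'.trans hNn)
    let c : ZMod 5 → X → ZMod 5 := fun i x =>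
      if hx : x ∈ orbit G x₀ then c₁ i ⟨x, hx⟩ else c₂ i ⟨x, hx⟩
    have e1 : ∀ (i : ZMod 5) (a : A), c i a = c₁ i a := fun i a => dif_pos a.2
    have e2 : ∀ (i : ZMod 5) (b : B), c i b = c₂ i b := fun i b => dif_neg b.2
    refine ⟨c, fun i j g h => ?_⟩
    obtain ⟨hij, h1⟩ := hc₁ i j g fun a => by rw [← e1, ← e1]; exact h a
    obtain ⟨-, h2⟩ := hc₂ i j g fun b => by rw [← e2, ← e2]; exact h b
    refine ⟨hij, fun x => ?_⟩
    by_cases hx : x ∈ orbit G x₀
    · exact congrArg Subtype.val (h1 ⟨x, hx⟩)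
    · exact congrArg Subtype.val (h2 ⟨x, hx⟩)
  haveI : IsPretransitive G X := ⟨fun a b => by
    obtain ⟨g, rfl⟩ := htr a
    obtain ⟨g', rfl⟩ := htr b
    exact ⟨g' * g⁻¹, by show (g' * g⁻¹) • g • x₀ = g' • x₀; rw [mul_smul, inv_smul_smul]⟩⟩
  by_cases hfull : stabilizer G x₀ = ⊤
  · refine ⟨fun i _ => i, fun i j g h => ⟨(h x₀).symm, fun x => ?_⟩⟩
    obtain ⟨a, rfl⟩ := htr x
    have h' : ∀ b : G, b • x₀ = x₀ := fun b => mem_stabilizer_iff.1 (hfull ▸ Subgroup.mem_top b)
    show g • a • x₀ = a • x₀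
    rw [h' a, h' g]
  obtain ⟨K, hK, hHK⟩ := (eq_top_or_exists_le_coatom (stabilizer G x₀)).resolve_left hfull
  by_cases hKH : K = stabilizer G x₀
  · -- primitive
    set f := (MulAction.toPermHom G X).rangeRestrict with hf
    have hfs : Function.Surjective f := MonoidHom.rangeRestrict_surjective _
    haveI : IsPretransitive (MulAction.toPermHom G X).range X := ⟨fun a b => by
      obtain ⟨g, hg⟩ := exists_smul_eq G a b
      exact ⟨f g, hg⟩⟩
    have hcomap : (stabilizer (MulAction.toPermHom G X).range x₀).comap f = stabilizer G x₀ := by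
      ext g; rfl
    have hmax : IsCoatom (stabilizer (MulAction.toPermHom G X).range x₀) := by
      refine ⟨fun h => hfull (by rw [← hcomap, h, Subgroup.comap_top]), fun L hL => ?_⟩
      have h1 : K ≤ L.comap f := by rw [hKH, ← hcomap]; exact Subgroup.comap_mono hL.le
      rcases h1.lt_or_eq with h2 | h2
      · exact Subgroup.comap_injective hfs ((hK.2 _ h2).trans (Subgroup.comap_top f).symm)
      · exact absurd (Subgroup.comap_injective hfs ((hcomap.trans hKH.symm).trans h2)) hL.ne
    obtain ⟨c, hc⟩ := exists_colourings_primitive hB (Group.isSolvable_of_surjective hfs) hmax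
      (hN ▸ hNn)
    exact ⟨c, fun i j g h => hc i j (f g) h⟩
  -- imprimitive
  choose rep hrep using htr
  replace hrep : ∀ x, rep x • x₀ = x := hrep
  let bl : X → G ⧸ K := fun x => QuotientGroup.mk (rep x)
  have hbl : ∀ (g : G) (x : X), g • x₀ = x → bl x = QuotientGroup.mk g := fun g x h =>
    QuotientGroup.eq.2 (hHK (mem_stabilizer_iff.2 (by rw [mul_smul, inv_smul_eq_iff, h, hrep])))
  have hbls : ∀ (g : G) (x : X), bl (g • x) = g • bl x := fun g x => by
    rw [hbl (g * rep x) (g • x) (by rw [mul_smul, hrep])]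
    rfl
  let S : SubMulAction K X := ⟨{x | bl x = ((1 : G) : G ⧸ K)}, fun k {x} hx => by
    show bl ((k : G) • x) = _
    rw [hbls, show bl x = _ from hx]
    exact QuotientGroup.eq.2 (by simp [k.2])⟩
  obtain ⟨g₀, hg₀⟩ : ∃ g, g ∉ K := by
    by_contra! h; exact hK.1 (eq_top_iff.2 fun x _ => h x)
  have hS : Nat.card S < N := hN ▸ card_lt_of_injective_notMem (Subtype.val)
      Subtype.val_injective (b := g₀ • x₀) (fun ⟨z, hz⟩ h => hg₀ (by
        have h1 : bl (g₀ • x₀) = ((1 : G) : G ⧸ K) := h ▸ hz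
        rw [hbl g₀ _ rfl] at h1
        simpa using QuotientGroup.eq.1 h1))
  have hQ : Nat.card (G ⧸ K) < N := by
    have hidx : (stabilizer G x₀).index = N := by rw [index_stabilizer_of_transitive G x₀, hN]
    rw [← Subgroup.index, ← hidx, ← Subgroup.relIndex_mul_index hHK]
    refine lt_mul_of_one_lt_left (Nat.pos_of_ne_zero Subgroup.index_ne_zero_of_finite)
      (lt_of_le_of_ne (Nat.pos_of_ne_zero ?_) fun h => hKH (le_antisymm
        (Subgroup.relIndex_eq_one.1 h.symm) hHK))
    exact Subgroup.index_ne_zero_of_finite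
  obtain ⟨t, ht⟩ := ih _ hS (G := K) (X := S) ⟨⟨x₀, hbl 1 x₀ (one_smul _ _)⟩⟩ inferInstance rfl
    (hS.trans hNn)
  obtain ⟨Q, hQ'⟩ := ih _ hQ (G := G) (X := G ⧸ K) ⟨((1 : G) : G ⧸ K)⟩ hsol rfl (hQ.trans hNn)
  let r : X → G := fun x => (bl x).out
  have hr : ∀ x, bl ((r x)⁻¹ • x) = ((1 : G) : G ⧸ K) := fun x => by
    rw [hbls, inv_smul_eq_iff]
    show bl x = ((r x * 1 : G) : G ⧸ K)
    rw [mul_one]
    exact (QuotientGroup.out_eq' _).symm
  refine ⟨fun i x => t (Q i (bl x)) ⟨(r x)⁻¹ • x, hr x⟩, fun i j g h => ?_⟩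
  simp only at h
  have hstep : ∀ q : G ⧸ K, Q j (g • q) = Q i q ∧
      ∃ k : K, (g • q).out * (k : G) = g * q.out ∧ ∀ y : S, k • y = y := by
    intro q
    have hk : ((g • q).out)⁻¹ * (g * q.out) ∈ K := by
      refine QuotientGroup.eq.1 ?_
      rw [QuotientGroup.out_eq']
      conv_lhs => rw [← QuotientGroup.out_eq' q]
      rfl
    have hall : ∀ y : S, t (Q j (g • q)) ((⟨_, hk⟩ : K) • y) = t (Q i q) y := by
      intro y
      have hy : bl (y : X) = ((1 : G) : G ⧸ K) := y.2
      have hcx : bl (q.out • (y : X)) = q := by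
        rw [hbls, hy]
        show ((q.out * 1 : G) : G ⧸ K) = q
        rw [mul_one, QuotientGroup.out_eq']
      have hcgx : bl (g • q.out • (y : X)) = g • q := by rw [hbls, hcx]
      have h' := h (q.out • (y : X))
      refine Eq.trans ?_ (h'.trans ?_)
      · rw [hcgx]
        refine congrArg _ (Subtype.ext ?_)
        show (((g • q).out)⁻¹ * (g * q.out)) • (y : X) = (bl (g • q.out • (y : X))).out⁻¹ • _
        rw [hcgx, mul_smul, mul_smul]
      · rw [hcx]
        refine congrArg _ (Subtype.ext ?_)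
        show (bl (q.out • (y : X))).out⁻¹ • _ = (y : X)
        rw [hcx, inv_smul_smul]
    obtain ⟨heq, hk'⟩ := ht _ _ _ hall
    exact ⟨heq.symm, _, mul_inv_cancel_left _ _, hk'⟩
  obtain ⟨hij, hblocks⟩ := hQ' i j g fun q => (hstep q).1
  refine ⟨hij, fun x => ?_⟩
  obtain ⟨k, hk1, hk⟩ := (hstep (bl x)).2
  have h2 : (k : G) • (r x)⁻¹ • x = (r x)⁻¹ • x := congrArg Subtype.val (hk ⟨(r x)⁻¹ • x, hr x⟩)
  rw [hblocks] at hk1
  calc g • x = (g * r x) • (r x)⁻¹ • x := by rw [mul_smul, smul_inv_smul]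
    _ = ((r x) * (k : G)) • (r x)⁻¹ • x := by rw [show g * r x = r x * (k : G) from hk1.symm]
    _ = x := by rw [mul_smul, h2, smul_inv_smul]

/-- Five colourings for every solvable group. -/
theorem exists_five_colourings {n : ℕ} (hB : BaseBelow3.{u} n) {G : Type u} [Group G] [Finite G]
    {X : Type u} [Finite X] [Nonempty X] [MulAction G X] (hsol : Group.IsSolvable G)
    (hX : Nat.card X < n) : ∃ c : ZMod 5 → X → ZMod 5, IsFiveColourings G c :=
  exists_five_colourings_aux hB _ ‹_› hsol rfl hX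

end Cfsg.Agent.BaseThree
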