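import Cfsg.Agent.Lib.BaseThree.FiveTriples
import Cfsg.Agent.Lib.BaseThree.Colour
import Cfsg.Agent.Lib.OddBaseTwo.Imprimitive

/-!
# The imprimitive case for bases of size three

`hasBase3_of_decomp`: five bases in different orbits in the summands, distributed by a colouring
with five colours that is fixed only by what fixes every summand.
-/

set_option autoImplicit false
set_option linter.style.haveILetI false

namespace Cfsg.Agent.BaseThree

open OddBaseTwo MulAction

universe u

variable {A : Type u} [Group A] {V : Type u} [AddCommGroup V] [DistribMulAction A V]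
  {ι : Type u} [Fintype ι] [MulAction A ι]

theorem hasBase3_of_decomp [Finite A] [Finite V] (hB : BaseBelow3.{u} (Nat.card V))
    (hsol : Group.IsSolvable A) (hirr : IsIrr A V)
    {W : ι → AddSubgroup V} (hd : IsDecomp (A := A) W) (h2 : 1 < Fintype.card ι) : HasBase3 A V := by
  classical
  haveI := hsol
  obtain ⟨i₀⟩ : Nonempty ι := Fintype.card_pos_iff.1 (by omega)
  -- transitivity
  have htr : ∀ i, i ∈ orbit A i₀ := by
    intro i
    by_contra hi
    let S : ι → AddSubgroup V := fun j => if j ∈ orbit A i₀ then W j else ⊥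
    have hS : ∀ (a : A) (j : ι), ∀ x ∈ S j, a • x ∈ S (a • j) := by
      intro a j x hx
      by_cases hj : j ∈ orbit A i₀
      · simp only [S, if_pos hj] at hx
        simp only [S, if_pos (show a • j ∈ orbit A i₀ by rw [← orbit_eq_iff.2 hj]; exact mem_orbit j a)]
        exact hd.smul_mem a j x hx
      · simp only [S, if_neg hj, AddSubgroup.mem_bot] at hx
        rw [hx, smul_zero]; exact zero_mem _
    have h := hd.family_top hirr S (fun j => by simp only [S]; split_ifs; exacts [le_rfl, bot_le]) hS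
      (i₀ := i₀) (by simp only [S, if_pos (mem_orbit_self i₀)]; exact hd.ne_bot i₀) i
    simp only [S, if_neg hi, le_bot_iff] at h
    exact hd.ne_bot i h
  choose rep hrep using htr
  replace hrep : ∀ i, rep i • i₀ = i := hrep
  set B := stabilizer A i₀ with hBdef
  have hWinv : IsInv B V (W i₀) := fun b x hx => by
    have := hd.smul_mem b i₀ x hx
    rwa [mem_stabilizer_iff.1 b.2] at this
  letI := subAction (W i₀) hWinv
  have hWirr : IsIrr B (W i₀) := by
    intro U hU
    by_cases hU0 : U = ⊥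
    · exact Or.inl hU0
    right
    let S : ι → AddSubgroup V := fun j =>
      (U.map (W i₀).subtype).comap (DistribSMul.toAddMonoidHom V (rep j)⁻¹)
    have hmemS : ∀ j x, x ∈ S j ↔ ∃ y ∈ U, (y : V) = (rep j)⁻¹ • x := fun j x => Iff.rfl
    have hb : ∀ (a : A) (j : ι), (rep (a • j))⁻¹ * a * rep j ∈ B := fun a j => by
      rw [hBdef, mem_stabilizer_iff, mul_smul, mul_smul, hrep, inv_smul_eq_iff, hrep]
    have hSW : ∀ j, S j ≤ W j := fun j x hx => by
      obtain ⟨y, -, hy⟩ := (hmemS j x).1 hx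
      have := hd.smul_mem (rep j) i₀ _ y.2
      rwa [hrep, hy, smul_inv_smul] at this
    have hS : ∀ (a : A) (j : ι), ∀ x ∈ S j, a • x ∈ S (a • j) := fun a j x hx => by
      obtain ⟨y, hy, hyx⟩ := (hmemS j x).1 hx
      refine (hmemS _ _).2 ⟨(⟨_, hb a j⟩ : B) • y, hU _ y hy, ?_⟩
      show ((rep (a • j))⁻¹ * a * rep j) • (y : V) = _
      rw [hyx, mul_smul, mul_smul, smul_inv_smul]
    obtain ⟨⟨y, hy⟩, hy0⟩ := AddSubgroup.ne_bot_iff_exists_ne_zero.1 hU0
    have hne : S i₀ ≠ ⊥ := fun h => hy0 (Subtype.ext (Subtype.ext (by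
      have hm : rep i₀ • (y : V) ∈ S i₀ := (hmemS _ _).2 ⟨y, hy, (inv_smul_smul _ _).symm⟩
      rw [h, AddSubgroup.mem_bot, smul_eq_zero_iff_eq] at hm
      exact hm)))
    refine eq_top_iff.2 fun z _ => ?_
    have hm : rep i₀ • (z : V) ∈ S i₀ := hd.family_top hirr S hSW hS hne i₀ (by
      have := hd.smul_mem (rep i₀) i₀ _ z.2
      rwa [hrep] at this)
    obtain ⟨w, hw, hwz⟩ := (hmemS _ _).1 hm
    rw [inv_smul_smul] at hwz
    exact Subtype.ext hwz ▸ hw
  haveI : Nontrivial (W i₀) := (AddSubgroup.nontrivial_iff_ne_bot _).2 (hd.ne_bot i₀)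
  have hWlt : Nat.card (W i₀) < Nat.card V := card_lt_of_ne_top fun h => by
    obtain ⟨j, hj⟩ := Fintype.exists_ne_of_one_lt_card h2 i₀
    obtain ⟨⟨x, hx⟩, hx0⟩ := AddSubgroup.ne_bot_iff_exists_ne_zero.1 (hd.ne_bot j)
    have h1 := hd.eq_of_sum_eq (f := Pi.single j x) (g := Pi.single i₀ x)
      (fun k => by by_cases hk : k = j
                   · subst hk; simpa using hx
                   · simp [hk])
      (fun k => by by_cases hk : k = i₀
                   · subst hk; simp [h]
                   · simp [hk]) (by simp) j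
    exact hx0 (Subtype.ext (by simpa [hj] using h1))
  obtain ⟨p, hp, hpW⟩ := exists_nsmul_eq_zero hWirr
  haveI := Fact.mk hp
  obtain ⟨t, ht⟩ := exists_five_triples (A := B) inferInstance hpW
    (hB B (W i₀) hWlt inferInstance hWirr.isCR)
  have hι : Nat.card ι < Nat.card V := by
    rw [← Nat.card_congr (Equiv.ofBijective _ hd.bij), Nat.card_pi, Nat.card_eq_fintype_card]
    refine lt_of_lt_of_le Nat.lt_two_pow_self ?_
    rw [show 2 ^ Fintype.card ι = ∏ _i : ι, 2 by simp]
    exact Finset.prod_le_prod' fun i _ => Finite.one_lt_card_iff_nontrivial.2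
      ((AddSubgroup.nontrivial_iff_ne_bot _).2 (hd.ne_bot i))
  haveI : Nonempty ι := ⟨i₀⟩
  obtain ⟨c, hc⟩ := exists_five_colourings hB (G := A) hsol hι
  let col : ι → Fin 5 := fun i => c 0 i
  let cv : Fin 3 → ι → V := fun k i => rep i • ((t (col i) k : W i₀) : V)
  have hmem : ∀ (i : ι) (x : W i₀), rep i • (x : V) ∈ W i := fun i x => by
    have := hd.smul_mem (rep i) i₀ _ x.2
    rwa [hrep] at this
  refine ⟨∑ i, cv 0 i, ∑ i, cv 1 i, ∑ i, cv 2 i, fun g hg0 hg1 hg2 => ?_⟩
  have hg : ∀ k, g • ∑ i, cv k i = ∑ i, cv k i := by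
    intro k; fin_cases k <;> assumption
  have hb : ∀ i, (rep (g • i))⁻¹ * g * rep i ∈ B := fun i => by
    rw [hBdef, mem_stabilizer_iff, mul_smul, mul_smul, hrep, inv_smul_eq_iff, hrep]
  have hmap : ∀ i k, (⟨_, hb i⟩ : B) • t (col i) k = t (col (g • i)) k := by
    intro i k
    refine Subtype.ext ?_
    show ((rep (g • i))⁻¹ * g * rep i) • ((t (col i) k : W i₀) : V) =
      ((t (col (g • i)) k : W i₀) : V)
    rw [mul_smul, mul_smul, inv_smul_eq_iff]
    exact hd.smul_eq_of_fixes (c := cv k) (fun i => hmem i _) (hg k) i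
  have hfixed : ∀ i, g • i = i :=
    (hc 0 0 g fun i => (ht (col i) (col (g • i)) _ (hmap i)).1.symm).2
  intro z
  obtain ⟨x, rfl⟩ := hd.bij.2 z
  rw [Finset.smul_sum]
  refine Finset.sum_congr rfl fun i _ => ?_
  have htriv := (ht (col i) (col (g • i)) _ (hmap i)).2
  have hx : (rep i)⁻¹ • (x i : V) ∈ W i₀ := by
    have := hd.smul_mem (rep i)⁻¹ i _ (x i).2
    rwa [inv_smul_eq_iff.2 (hrep i).symm] at this
  have h3 : ((rep (g • i))⁻¹ * g * rep i) • (rep i)⁻¹ • (x i : V) = (rep i)⁻¹ • (x i : V) :=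
    congrArg Subtype.val (htriv ⟨_, hx⟩)
  rw [hfixed i, mul_smul, mul_smul, smul_inv_smul, smul_left_cancel_iff] at h3
  exact h3

end Cfsg.Agent.BaseThree
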