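import Cfsg.Agent.Lib.BaseThree.Basic
import Cfsg.Agent.Lib.GL.Simple
import Cfsg.Agent.Lib.CharInt.Burnside

/-!
# Five inequivalent bases of size three

* `five_le_index`: solvable subgroups of `GL_3(p)` have index at least five.
* `exists_five_triples`: a module of prime exponent with a base of size three for a solvable group has
  five such bases in different orbits.
-/

set_option autoImplicit false
set_option linter.style.haveILetI false

namespace Cfsg.Agent.BaseThree

open OddBaseTwo Matrix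

universe u v

theorem isSolvable_perm_le_four (Y : Type u) [Finite Y] (h : Nat.card Y ≤ 4) :
    Group.IsSolvable (Equiv.Perm Y) := by
  have hc := Nat.card_perm (α := Y)
  interval_cases hk : Nat.card Y
  · exact CharInt.isSolvable_of_card_eq (p := 2) (q := 3) (a := 0) (b := 0) Nat.prime_two Nat.prime_three (by rw [hc]; decide)
  · exact CharInt.isSolvable_of_card_eq (p := 2) (q := 3) (a := 0) (b := 0) Nat.prime_two Nat.prime_three (by rw [hc]; decide)
  · exact CharInt.isSolvable_of_card_eq (p := 2) (q := 3) (a := 1) (b := 0) Nat.prime_two Nat.prime_three (by rw [hc]; decide)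
  · exact CharInt.isSolvable_of_card_eq (p := 2) (q := 3) (a := 1) (b := 1) Nat.prime_two Nat.prime_three (by rw [hc]; decide)
  · exact CharInt.isSolvable_of_card_eq (p := 2) (q := 3) (a := 3) (b := 1) Nat.prime_two Nat.prime_three (by rw [hc]; decide)

/-- Solvable subgroups of `GL_3` over a finite field have index at least five. -/
theorem five_le_index {F : Type} [Field F] [Finite F] (H : Subgroup (Matrix.GeneralLinearGroup (Fin 3) F))
    (hH : Group.IsSolvable H) : 5 ≤ H.index := by
  by_contra hlt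
  haveI := hH
  haveI := isSolvable_perm_le_four (Matrix.GeneralLinearGroup (Fin 3) F ⧸ H)
    (by rw [← Subgroup.index_eq_card]; omega)
  set φ := MulAction.toPermHom (Matrix.GeneralLinearGroup (Fin 3) F) (Matrix.GeneralLinearGroup (Fin 3) F ⧸ H)
  haveI : Group.IsSolvable H.normalCore := Group.isSolvable_of_isSolvable_injective
    (f := Subgroup.inclusion H.normalCore_le) (Subgroup.inclusion_injective _)
  haveI : Group.IsSolvable (Matrix.GeneralLinearGroup (Fin 3) F) :=
    Group.isSolvable_of_ker_le_range H.normalCore.subtype φ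
      (by rw [Subgroup.range_subtype, Subgroup.normalCore_eq_ker])
  haveI : Group.IsSolvable (SpecialLinearGroup (Fin 3) F) := Group.isSolvable_of_isSolvable_injective
    (f := SpecialLinearGroup.toGL) SpecialLinearGroup.toGL_injective
  haveI : Nontrivial (SpecialLinearGroup (Fin 3) F) := ⟨⟨1, SpecialLinearGroup.transvection
    (show (0 : Fin 3) ≠ 1 by decide) 1, fun h => by
      have h1 := congrArg (fun M : SpecialLinearGroup (Fin 3) F => (M : Matrix (Fin 3) (Fin 3) F) 0 1) h
      simp [SpecialLinearGroup.transvection_coe] at h1⟩⟩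
  exact (Group.IsSolvable.commutator_lt_top_of_nontrivial (G := SpecialLinearGroup (Fin 3) F)).ne
    (GL.SL_commutator_eq_top_of_three_le (by simp))

/-- Five triples, pairwise inequivalent, each with trivial stabiliser. -/
def IsFiveTriples (A : Type u) [Group A] {V : Type v} [AddCommGroup V] [DistribMulAction A V]
    (t : Fin 5 → Fin 3 → V) : Prop :=
  ∀ (i j : Fin 5) (g : A), (∀ k, g • t i k = t j k) → i = j ∧ ∀ z : V, g • z = z

section

variable {A : Type u} [Group A] {V : Type v} [AddCommGroup V] [DistribMulAction A V]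

theorem five_of_single {c : V} (hc : c ≠ 0) (hs : ∀ g : A, g • c = c → ∀ z : V, g • z = z) :
    ∃ t : Fin 5 → Fin 3 → V, IsFiveTriples A t := by
  refine ⟨![![c, 0, 0], ![0, c, 0], ![0, 0, c], ![c, c, 0], ![c, 0, c]], fun i j g h => ?_⟩
  have hgc : g • c ≠ 0 := fun h' => hc (smul_left_cancel g (h'.trans (smul_zero g).symm))
  have h0 := h 0
  have h1 := h 1
  have h2 := h 2
  fin_cases i <;> fin_cases j <;> simp [hgc, hc.symm] at h0 h1 h2
  all_goals exact ⟨rfl, hs g (by first | exact h0 | exact h1 | exact h2)⟩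

theorem five_of_pair {a b : V} (ha : a ≠ 0) (hb : b ≠ 0) (hab : a ≠ b)
    (hs : ∀ g : A, g • a = a → g • b = b → ∀ z : V, g • z = z) :
    ∃ t : Fin 5 → Fin 3 → V, IsFiveTriples A t := by
  refine ⟨![![a, b, 0], ![a, 0, b], ![0, a, b], ![a, b, a], ![a, b, b]], fun i j g h => ?_⟩
  have hga : g • a ≠ 0 := fun h' => ha (smul_left_cancel g (h'.trans (smul_zero g).symm))
  have hgb : g • b ≠ 0 := fun h' => hb (smul_left_cancel g (h'.trans (smul_zero g).symm))
  have hgab : g • a ≠ g • b := fun h' => hab (smul_left_cancel g h')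
  have h0 := h 0
  have h1 := h 1
  have h2 := h 2
  fin_cases i <;> fin_cases j <;> simp [hga, hgb, ha.symm, hb.symm] at h0 h1 h2
  all_goals first
    | exact ⟨rfl, hs g (by first | exact h0 | exact h1) (by first | exact h1 | exact h2)⟩
    | exact absurd (h0.trans h2.symm) hgab
    | exact absurd (h1.trans h2.symm) hgab.symm

end

theorem exists_five_triples {A : Type u} [Group A] [Finite A] {V : Type v} [AddCommGroup V]
    [Finite V] [Nontrivial V] [DistribMulAction A V] (hsol : Group.IsSolvable A) {p : ℕ}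
    [Fact p.Prime] (hp : ∀ x : V, p • x = 0) (hb : HasBase3 A V) :
    ∃ t : Fin 5 → Fin 3 → V, IsFiveTriples A t := by
  classical
  haveI := hsol
  obtain ⟨x, y, z, hxyz⟩ := hb
  by_cases hsingle : ∃ c : V, c ≠ 0 ∧ ∀ g : A, g • c = c → ∀ w : V, g • w = w
  · obtain ⟨c, hc, hs⟩ := hsingle
    exact five_of_single hc hs
  by_cases hpair : ∃ a b : V, ∀ g : A, g • a = a → g • b = b → ∀ w : V, g • w = w
  · obtain ⟨a, b, hab⟩ := hpair
    obtain ⟨c₀, hc₀⟩ := exists_ne (0 : V)
    by_cases ha : a = 0
    · subst ha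
      by_cases hb0 : b = 0
      · subst hb0
        exact absurd ⟨c₀, hc₀, fun g _ => hab g (smul_zero g) (smul_zero g)⟩ hsingle
      · exact absurd ⟨b, hb0, fun g hg => hab g (smul_zero g) hg⟩ hsingle
    by_cases hb0 : b = 0
    · subst hb0
      exact absurd ⟨a, ha, fun g hg => hab g hg (smul_zero g)⟩ hsingle
    by_cases heq : a = b
    · subst heq
      exact absurd ⟨a, ha, fun g hg => hab g hg hg⟩ hsingle
    exact five_of_pair ha hb0 heq hab
  -- three independent vectors
  haveI : Module (ZMod p) V := AddCommGroup.zmodModule hp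
  have hsmul : ∀ (g : A) (c : ZMod p) (w : V), g • c • w = c • g • w := fun g c w => by
    rw [← ZMod.natCast_zmod_val c, Nat.cast_smul_eq_nsmul, Nat.cast_smul_eq_nsmul, smul_comm]
  let e : Fin 3 → V := ![x, y, z]
  let comb : (Fin 3 → ZMod p) →ₗ[ZMod p] V := Fintype.linearCombination (ZMod p) e
  have hcomb : ∀ c, comb c = c 0 • x + c 1 • y + c 2 • z := fun c => by
    simp [comb, e, Fintype.linearCombination_apply, Fin.sum_univ_three]
  have hsolve : ∀ (a b d : V) (α β γ : ZMod p), γ ≠ 0 → α • a + β • b + γ • d = 0 →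
      ∀ g : A, g • a = a → g • b = b → g • d = d := by
    intro a b d α β γ hγ hr g ga gb
    have hd : d = γ⁻¹ • (-(α • a) - β • b) := by
      rw [eq_inv_smul_iff₀ hγ, ← sub_eq_zero, ← hr]; abel
    rw [hd, hsmul, smul_sub, smul_neg, hsmul, hsmul, ga, gb]
  have hinj : Function.Injective comb := by
    rw [← LinearMap.ker_eq_bot, LinearMap.ker_eq_bot']
    intro c hc
    rw [hcomb] at hc
    have h0 : c 0 = 0 := by
      by_contra h
      refine hpair ⟨y, z, fun g gy gz => hxyz g (hsolve y z x (c 1) (c 2) (c 0) h ?_ g gy gz) gy gz⟩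
      rw [← hc]; abel
    have h1 : c 1 = 0 := by
      by_contra h
      refine hpair ⟨x, z, fun g gx gz => hxyz g gx (hsolve x z y (c 0) (c 2) (c 1) h ?_ g gx gz) gz⟩
      rw [← hc]; abel
    have h2 : c 2 = 0 := by
      by_contra h
      exact hpair ⟨x, y, fun g gx gy => hxyz g gx gy (hsolve x y z (c 0) (c 1) (c 2) h hc g gx gy)⟩
    funext k
    fin_cases k <;> assumption
  let B : Subgroup A :=
    { carrier := {g | ∀ c, g • comb c ∈ Set.range comb}
      one_mem' := fun c => ⟨c, (one_smul A _).symm⟩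
      mul_mem' := fun {g h} hg hh c => by
        obtain ⟨d, hd⟩ := hh c
        rw [mul_smul, ← hd]; exact hg d
      inv_mem' := fun {g} hg c => by
        have himg : (fun w => g • w) '' Set.range comb = Set.range comb :=
          Set.eq_of_subset_of_ncard_le (by rintro _ ⟨_, ⟨d, rfl⟩, rfl⟩; exact hg d)
            (Set.ncard_image_of_injective _ (MulAction.injective g)).ge
        have hm : comb c ∈ Set.range comb := ⟨c, rfl⟩
        rw [← himg] at hm
        obtain ⟨w, hw, hgw⟩ := hm
        rw [← hgw, inv_smul_smul]; exact hw }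
  choose cf hcf using fun (g : B) (c : Fin 3 → ZMod p) => (g.2 c)
  let L : B → (Fin 3 → ZMod p) →ₗ[ZMod p] (Fin 3 → ZMod p) := fun g =>
    { toFun := cf g
      map_add' := fun c d => hinj (by rw [hcf, map_add, map_add, smul_add, hcf, hcf])
      map_smul' := fun r c => hinj (by rw [hcf, map_smul, map_smul, hsmul, hcf]; rfl) }
  have hL : ∀ (g : B) c, comb (L g c) = (g : A) • comb c := fun g c => hcf g c
  let ψ₀ : B →* Module.End (ZMod p) (Fin 3 → ZMod p) :=
    { toFun := L
      map_one' := LinearMap.ext fun c => hinj (by rw [hL, Subgroup.coe_one, one_smul]; rfl)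
      map_mul' := fun g h => LinearMap.ext fun c => hinj (by
        rw [hL, Module.End.mul_apply, hL, hL, Subgroup.coe_mul, mul_smul]) }
  let ψ : B →* Matrix.GeneralLinearGroup (Fin 3) (ZMod p) :=
    ((LinearMap.toMatrixAlgEquiv (Pi.basisFun (ZMod p) (Fin 3))).toMonoidHom.comp ψ₀).toHomUnits
  have hψ : ∀ (g : B) c, comb ((ψ g : Matrix (Fin 3) (Fin 3) (ZMod p)) *ᵥ c) = (g : A) • comb c := by
    intro g c
    rw [← hL]
    congr 1
    show LinearMap.toMatrixAlgEquiv (Pi.basisFun (ZMod p) (Fin 3)) (L g) *ᵥ c = L g c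
    rw [show LinearMap.toMatrixAlgEquiv (Pi.basisFun (ZMod p) (Fin 3)) (L g) = LinearMap.toMatrix' (L g)
      from rfl, LinearMap.toMatrix'_mulVec]
  haveI : Group.IsSolvable ψ.range := Group.isSolvable_of_surjective ψ.rangeRestrict_surjective
  have hidx := five_le_index ψ.range inferInstance
  haveI := Fintype.ofFinite (Matrix.GeneralLinearGroup (Fin 3) (ZMod p) ⧸ ψ.range)
  obtain ⟨emb⟩ : Nonempty (Fin 5 ↪ Matrix.GeneralLinearGroup (Fin 3) (ZMod p) ⧸ ψ.range) := by
    refine Function.Embedding.nonempty_of_card_le ?_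
    rwa [Fintype.card_fin, ← Nat.card_eq_fintype_card, ← Subgroup.index_eq_card]
  let T : Fin 5 → Matrix.GeneralLinearGroup (Fin 3) (ZMod p) := fun i => (emb i).out⁻¹
  refine ⟨fun i k => comb ((T i : Matrix (Fin 3) (Fin 3) (ZMod p)) *ᵥ Pi.single k 1), fun i j g h => ?_⟩
  -- the images of all combinations
  have hall : ∀ c, g • comb ((T i : Matrix (Fin 3) (Fin 3) (ZMod p)) *ᵥ c) =
      comb ((T j : Matrix (Fin 3) (Fin 3) (ZMod p)) *ᵥ c) := by
    intro c
    rw [pi_eq_sum_univ' c]
    simp only [Matrix.mulVec_sum, Matrix.mulVec_smul, map_sum, map_smul, Finset.smul_sum, hsmul]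
    exact Finset.sum_congr rfl fun k _ => by rw [h k]
  have hgB : g ∈ B := fun c => by
    refine ⟨(T j : Matrix (Fin 3) (Fin 3) (ZMod p)) *ᵥ (((T i)⁻¹ : _) : Matrix (Fin 3) (Fin 3) (ZMod p)) *ᵥ c, ?_⟩
    rw [← hall, Matrix.mulVec_mulVec, Units.mul_inv, Matrix.one_mulVec]
  have hmat : ψ ⟨g, hgB⟩ * T i = T j := by
    refine Units.ext (Matrix.toLin'.injective (LinearMap.ext fun c => hinj ?_))
    rw [Matrix.toLin'_apply, Matrix.toLin'_apply, Units.val_mul, ← Matrix.mulVec_mulVec, hψ]
    exact hall c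
  have hij : i = j := by
    refine emb.injective ?_
    rw [← QuotientGroup.out_eq' (emb i), ← QuotientGroup.out_eq' (emb j)]
    refine (QuotientGroup.eq.2 ?_).symm
    refine ⟨⟨g, hgB⟩, ?_⟩
    have h2 : ψ ⟨g, hgB⟩ = T j * (T i)⁻¹ := eq_mul_inv_of_mul_eq hmat
    rw [h2]
    simp [T]
  subst hij
  refine ⟨rfl, ?_⟩
  have h1 : ψ ⟨g, hgB⟩ = 1 := mul_eq_right.1 hmat
  have hfix : ∀ c, g • comb c = comb c := fun c => by
    rw [← hψ ⟨g, hgB⟩ c, h1, Units.val_one, Matrix.one_mulVec]
  refine hxyz g ?_ ?_ ?_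
  · have h' := hfix ![1, 0, 0]; simp [hcomb] at h'; exact h'
  · have h' := hfix ![0, 1, 0]; simp [hcomb] at h'; exact h'
  · have h' := hfix ![0, 0, 1]; simp [hcomb] at h'; exact h'

end Cfsg.Agent.BaseThree
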