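import Cfsg.Agent.Lib.BaseThree.Perp
import Cfsg.Agent.Lib.OddBaseTwo.Structure
import Mathlib.Data.Nat.Choose.Dvd

/-!
# A line with largest stabiliser in a class two section

`exists_frame`: for a primitive linear group with class two section `M`, an abelian `L ≤ M`, the
full stabiliser of the line of `v`, such that the centraliser of `L` in `M` moves `v` only inside
the plane of `v` and `w • v`, for some `w` centralising `L`.
-/

set_option autoImplicit false
set_option linter.unusedSectionVars false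
set_option linter.style.haveILetI false

namespace Cfsg.Agent.BaseThree

open scoped commutatorElement
open OddBaseTwo

universe u v w

variable {A : Type u} [Group A] {K : Type w} [Field K] {V : Type v} [AddCommGroup V] [Module K V]
  [DistribMulAction A V] (P : PrimData A K V)

/-- The elements of `M` fixing the line of `x`. -/
def lineStab (x : V) : Subgroup A where
  carrier := {g | g ∈ P.M ∧ ∃ c : Kˣ, g • x = (c : K) • x}
  one_mem' := ⟨one_mem _, 1, by rw [one_smul, Units.val_one, one_smul]⟩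
  mul_mem' := by
    rintro a b ⟨ha, c, hc⟩ ⟨hb, d, hd⟩
    refine ⟨mul_mem ha hb, d * c, ?_⟩
    rw [mul_smul, hd, P.linear a (P.good.le_centralizer ha), hc, smul_smul, Units.val_mul]
  inv_mem' := by
    rintro a ⟨ha, c, hc⟩
    refine ⟨inv_mem ha, c⁻¹, ?_⟩
    rw [inv_smul_eq_iff, P.linear a (P.good.le_centralizer ha), hc, smul_smul, Units.inv_mul, one_smul]

theorem mem_lineStab {x : V} (hx : x ≠ 0) {g : A} (hg : g ∈ P.M) {c : K} (h : g • x = c • x) :
    g ∈ lineStab P x := by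
  have hc : c ≠ 0 := fun h0 => by
    rw [h0, zero_smul, smul_eq_zero_iff_eq] at h
    exact hx h
  exact ⟨hg, Units.mk0 c hc, h⟩

/-- A line with largest stabiliser, and what is needed about it. -/
structure Frame (P : PrimData A K V) where
  /-- The vector. -/
  v : V
  /-- The second element of the plane. -/
  w : A
  /-- The stabiliser of the line. -/
  L : Subgroup A
  /-- The character on the line. -/
  lam : ↥L →* Kˣ
  v_ne : v ≠ 0
  le_M : L ≤ P.M
  Z_le : P.Z ≤ L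
  comm_L : ∀ a ∈ L, ∀ b ∈ L, a * b = b * a
  smul_L : ∀ l : ↥L, (l : A) • v = ((lam l : Kˣ) : K) • v
  mem_L : ∀ g ∈ P.M, ∀ c : K, g • v = c • v → g ∈ L
  w_mem : w ∈ P.M
  w_comm : ∀ l ∈ L, l * w = w * l
  span : ∀ d ∈ P.M, (∀ l ∈ L, l * d = d * l) → ∃ a b : K, d • v = a • v + b • (w • v)

variable [FaithfulSMul A V]

/-- The image of `x` in the section. -/
abbrev π : ↥P.M →* P.W := QuotientGroup.mk' (P.Z.subgroupOf P.M)

theorem π_eq_one {x : A} (hx : x ∈ P.M) : π P ⟨x, hx⟩ = 1 ↔ x ∈ P.Z :=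
  (QuotientGroup.eq_one_iff _).trans Subgroup.mem_subgroupOf

theorem form_eq_one_iff {a b : A} (ha : a ∈ P.M) (hb : b ∈ P.M) :
    P.form (π P ⟨a, ha⟩) (π P ⟨b, hb⟩) = 1 ↔ a * b = b * a := by
  rw [show P.form (π P ⟨a, ha⟩) (π P ⟨b, hb⟩) = P.χ ⟨⁅a, b⁆, P.good.comm a ha b hb⟩ from rfl,
    ← map_one P.χ, P.χ_injective.eq_iff, Subtype.ext_iff, Subgroup.coe_one,
    commutatorElement_eq_one_iff_mul_comm]

theorem pow_r_eq_one [Finite A] {r : ℕ} {x : P.W} (h : x ^ (r * r) = 1) :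
    x ^ r = 1 := by
  letI := P.act
  let U : AddSubgroup (Additive P.W) := (nsmulAddMonoidHom (α := Additive P.W) r).ker
  have hU : IsInv A (Additive P.W) U := fun g y hy => by
    change r • (g • y) = 0
    exact (map_nsmul (DistribSMul.toAddMonoidHom (Additive P.W) g) r y).symm.trans
      (by rw [show r • y = 0 from hy]; exact map_zero _)
  obtain ⟨U', -, h1, h2⟩ := P.isCR_act U hU
  obtain ⟨y, hy, z, hz, hyz⟩ := exists_add_of_sup_eq_top h2 (Additive.ofMul x)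
  have hy' : r • y = 0 := hy
  have hrz : r • z ∈ U ⊓ U' := by
    refine ⟨?_, U'.nsmul_mem hz r⟩
    show r • (r • z) = 0
    have e : (r * r) • (y + z) = 0 := by rw [hyz, ← ofMul_pow, h]; rfl
    rwa [smul_add, mul_smul r r y, hy', smul_zero, zero_add, mul_smul] at e
  rw [h1, AddSubgroup.mem_bot] at hrz
  have : r • Additive.ofMul x = 0 := by rw [← hyz, smul_add, hy', hrz, add_zero]
  rwa [← ofMul_pow, ofMul_eq_zero] at this

theorem not_sq_dvd_orderOf [Finite A] {r : ℕ} (hr : r.Prime) (x : P.W) : ¬ r * r ∣ orderOf x := by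
  rintro ⟨k, hk⟩
  have hk0 : 0 < k := Nat.pos_of_mul_pos_left (hk ▸ orderOf_pos x)
  have h1 := pow_r_eq_one P (r := r) (x := x ^ k) (by rw [← pow_mul, mul_comm, ← hk, pow_orderOf_eq_one])
  rw [← pow_mul] at h1
  have h2 := Nat.le_of_dvd (Nat.mul_pos hk0 hr.pos) (orderOf_dvd_of_pow_eq_one h1)
  rw [hk, mul_comm k r] at h2
  exact absurd h2 (not_le.2 (by
    rw [mul_assoc]
    exact lt_mul_of_one_lt_left (Nat.mul_pos hr.pos hk0) hr.one_lt))

theorem exists_frame [Finite A] [Finite K] [Finite V] [Nontrivial V] : Nonempty (Frame P) := by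
  classical
  obtain ⟨v, hv, hvmax⟩ := Set.exists_max_image {x : V | x ≠ 0}
    (fun x => Nat.card (lineStab P x)) (Set.toFinite _) (exists_ne (0 : V))
  set L := lineStab P v with hLdef
  have hmax : ∀ x : V, x ≠ 0 → L ≤ lineStab P x → lineStab P x = L := fun x hx h =>
    (Subgroup.eq_of_le_of_card_ge h (hvmax x hx)).symm
  have hLM : L ≤ P.M := fun g hg => hg.1
  have hML : ∀ {g : A}, g ∈ P.M → g ∈ P.C := fun hg => P.good.le_centralizer hg
  choose lam₀ hlam₀ using fun l : ↥L => l.2.2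
  let lam : ↥L →* Kˣ :=
    { toFun := lam₀
      map_one' := Units.ext (smul_left_injective K hv (by
        show ((lam₀ 1 : Kˣ) : K) • v = ((1 : Kˣ) : K) • v
        rw [← hlam₀, Subgroup.coe_one, one_smul, Units.val_one, one_smul]))
      map_mul' := fun a b => Units.ext (smul_left_injective K hv (by
        show ((lam₀ (a * b) : Kˣ) : K) • v = ((lam₀ a * lam₀ b : Kˣ) : K) • v
        rw [← hlam₀, Subgroup.coe_mul, mul_smul, hlam₀ b, P.linear _ (hML (hLM a.2)), hlam₀ a,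
          smul_smul, Units.val_mul, mul_comm])) }
  have hlam : ∀ l : ↥L, (l : A) • v = ((lam l : Kˣ) : K) • v := hlam₀
  have hZL : P.Z ≤ L := fun z hz => ⟨P.good.le hz, P.χ ⟨z, hz⟩, P.scalar ⟨z, hz⟩ v⟩
  have hLcomm : ∀ a ∈ L, ∀ b ∈ L, a * b = b * a := by
    intro a ha b hb
    rw [← form_eq_one_iff P (hLM ha) (hLM hb)]
    refine Units.ext (smul_left_injective K hv ?_)
    show (_ : K) • v = ((1 : Kˣ) : K) • v
    have h : (b * a : A) • v = (a * b : A) • v := by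
      rw [mul_smul, mul_smul, hlam ⟨a, ha⟩, hlam ⟨b, hb⟩, P.linear _ (hML (hLM ha)),
        P.linear _ (hML (hLM hb)), hlam ⟨a, ha⟩, hlam ⟨b, hb⟩, smul_smul, smul_smul, mul_comm]
    have h1 := P.smul_smul_eq (hLM ha) (hLM hb) v
    rw [← mul_smul, ← mul_smul, h] at h1
    rw [Units.val_one, one_smul]
    refine smul_left_cancel (a * b) ?_
    rw [P.linear _ (hML (mul_mem (hLM ha) (hLM hb)))]
    exact h1.symm
  let E : Submodule K V :=
    { carrier := {x | ∀ l : ↥L, (l : A) • x = ((lam l : Kˣ) : K) • x}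
      add_mem' := fun {x y} hx hy l => by rw [smul_add, hx l, hy l, smul_add]
      zero_mem' := fun l => by rw [smul_zero, smul_zero]
      smul_mem' := fun c x hx l => by
        rw [P.linear _ (hML (hLM l.2)), hx l, smul_comm] }
  have hvE : v ∈ E := hlam
  have hEinv : ∀ d ∈ P.M, (∀ l ∈ L, l * d = d * l) → ∀ x ∈ E, d • x ∈ E := fun d hd hcd x hx l => by
    rw [← mul_smul, hcd l l.2, mul_smul, hx l, P.linear d (hML hd)]
  have hEeig : ∀ x ∈ E, x ≠ 0 → ∀ g ∈ P.M, ∀ c : K, g • x = c • x → g ∈ L := by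
    intro x hx hx0 g hg c hc
    rw [← hmax x hx0 fun l hl => ⟨hLM hl, lam ⟨l, hl⟩, hx ⟨l, hl⟩⟩]
    exact mem_lineStab P hx0 hg hc
  -- double centraliser
  set S := (L.subgroupOf P.M).map (π P) with hSdef
  have hmemS : ∀ {g : A} (hg : g ∈ P.M), π P ⟨g, hg⟩ ∈ S → g ∈ L := by
    rintro g hg ⟨⟨x, hx⟩, hxL, hxg⟩
    have h : x⁻¹ * g ∈ P.Z := Subgroup.mem_subgroupOf.1 (QuotientGroup.eq.1 hxg)
    have := L.mul_mem (Subgroup.mem_subgroupOf.1 hxL) (hZL h)
    rwa [mul_inv_cancel_left] at this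
  have hperp : ∀ {g : A} (hg : g ∈ P.M), π P ⟨g, hg⟩ ∈ perp P.form S ↔ ∀ l ∈ L, l * g = g * l := by
    intro g hg
    refine ⟨fun h l hl => ((form_eq_one_iff P hg (hLM hl)).1 (h _ ⟨⟨l, hLM hl⟩, hl, rfl⟩)).symm, ?_⟩
    rintro h _ ⟨⟨l, hlM⟩, hl, rfl⟩
    exact (form_eq_one_iff P hg hlM).2 (h l hl).symm
  have hdouble : ∀ g ∈ P.M, (∀ d ∈ P.M, (∀ l ∈ L, l * d = d * l) → g * d = d * g) → g ∈ L := by
    intro g hg h
    refine hmemS hg ?_
    rw [← perp_perp P.form P.halt P.nondeg S]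
    intro y hy
    obtain ⟨⟨d, hd⟩, rfl⟩ := QuotientGroup.mk_surjective y
    exact (form_eq_one_iff P hg hd).2 (h d hd ((hperp hd).1 hy))
  -- elements outside `L` with a power in `L`
  have hnotpow : ∀ d ∈ P.M, (∀ l ∈ L, l * d = d * l) → d ∉ L → ∀ r : ℕ, r.Prime →
      ∀ h : d ^ r ∈ L, r ∣ Nat.card K - 1 ∧ ∀ s : Kˣ, s ^ r ≠ lam ⟨d ^ r, h⟩ := by
    intro d hd hcd hdL r hr h
    haveI := Fact.mk hr
    have hq : r ∣ Nat.card K - 1 := by
      refine P.dvd_W hr ?_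
      let u : P.W ⧸ S := QuotientGroup.mk (π P ⟨d, hd⟩)
      have hu : orderOf u = r := orderOf_eq_prime
        ((QuotientGroup.eq_one_iff _).2 ⟨(⟨d, hd⟩ : ↥P.M) ^ r, h, map_pow _ _ _⟩)
        fun h1 => hdL (hmemS hd ((QuotientGroup.eq_one_iff _).1 h1))
      exact (hu ▸ orderOf_dvd_natCard u).trans (Subgroup.card_quotient_dvd_card S)
    refine ⟨hq, fun s hs => hdL ?_⟩
    have hK1 : 1 < Nat.card K := Finite.one_lt_card
    obtain ⟨ζ, hζ⟩ := exists_prime_orderOf_dvd_card' (G := Kˣ) r (by rwa [Nat.card_units])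
    have hrK : (r : K) ≠ 0 := fun h0 => by
      obtain ⟨k, hk⟩ := hq
      have h1 : Nat.card K = r * k + 1 := by omega
      have h2 : (Nat.card K : K) = 0 := by
        haveI := Fintype.ofFinite K
        rw [Nat.card_eq_fintype_card, Nat.cast_card_eq_zero]
      rw [h1, Nat.cast_add, Nat.cast_mul, h0, zero_mul, zero_add, Nat.cast_one] at h2
      exact one_ne_zero h2
    let T : V →ₗ[K] V := ((s⁻¹ : Kˣ) : K) • P.op (hML hd)
    have hTn : ∀ (n : ℕ) (x : V), (T ^ n) x = ((s⁻¹ : Kˣ) : K) ^ n • (d ^ n • x) := by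
      intro n
      induction n with
      | zero => intro x; simp
      | succ n ih =>
        intro x
        rw [pow_succ', Module.End.mul_apply, ih, map_smul]
        show _ • (((s⁻¹ : Kˣ) : K) • (d • d ^ n • x)) = _
        rw [smul_smul, ← pow_succ, ← mul_smul d, ← pow_succ']
    obtain ⟨x, hx, hx0, t, ht⟩ := exists_eigen hr (ζ := (ζ : K))
      (by rw [← Units.val_pow_eq_pow_val, ← hζ, pow_orderOf_eq_one, Units.val_one])
      (fun h1 => by rw [Units.val_eq_one.1 h1, orderOf_one] at hζ; exact hr.ne_one hζ.symm)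
      hrK E T (fun x hx => E.smul_mem _ (hEinv d hd hcd x hx)) hvE hv (by
        rw [hTn, hlam ⟨d ^ r, h⟩, ← hs, smul_smul, Units.val_pow_eq_pow_val, ← mul_pow,
          Units.inv_mul, one_pow, one_smul])
    refine hEeig x hx hx0 d hd ((s : K) * t) ?_
    rw [mul_smul, ← ht]
    show d • x = (s : K) • (((s⁻¹ : Kˣ) : K) • (d • x))
    rw [smul_smul, Units.mul_inv, one_smul]
  -- odd primes
  have hoddpr : ∀ d ∈ P.M, (∀ l ∈ L, l * d = d * l) → ∀ r : ℕ, r.Prime → Odd r →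
      d ^ r ∈ L → d ∈ L := by
    intro d hd hcd r hr hrodd h
    by_contra hdL
    obtain ⟨e, he, hce, hne⟩ : ∃ e ∈ P.M, (∀ l ∈ L, l * e = e * l) ∧ d * e ≠ e * d := by
      by_contra! h'
      exact hdL (hdouble d hd h')
    set wd := π P ⟨d, hd⟩
    set we := π P ⟨e, he⟩
    have hζ1 : P.form wd we ≠ 1 := fun h1 => hne ((form_eq_one_iff P hd he).1 h1)
    have hζr : P.form wd we ^ r = 1 := by
      rw [← MonoidHom.pow_apply, ← map_pow, ← map_pow]
      exact (form_eq_one_iff P (pow_mem hd r) he).2 (hce _ h)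
    have hord : orderOf (P.form wd we) = r := by
      haveI := Fact.mk hr
      exact orderOf_eq_prime hζr hζ1
    obtain ⟨k, hk⟩ : r ∣ orderOf we := by
      rw [← hord]
      exact orderOf_map_dvd (P.form wd) we
    have hrk : ¬ r ∣ k := fun ⟨j, hj⟩ =>
      not_sq_dvd_orderOf P hr we ⟨j, by rw [hk, hj, mul_assoc]⟩
    set e' := e ^ k with he'def
    have he' : e' ∈ P.M := pow_mem he k
    have hce' : ∀ l ∈ L, l * e' = e' * l := fun l hl => (Commute.pow_right (hce l hl) k).eq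
    have hwe' : π P ⟨e', he'⟩ = we ^ k := map_pow (π P) ⟨e, he⟩ k
    have hf' : P.form wd (π P ⟨e', he'⟩) ≠ 1 := fun h1 => hrk (by
      rw [hwe', map_pow] at h1
      exact hord ▸ orderOf_dvd_of_pow_eq_one h1)
    have he'r : e' ^ r ∈ P.Z := by
      rw [← π_eq_one P (pow_mem he' r),
        show (⟨e' ^ r, pow_mem he' r⟩ : ↥P.M) = ⟨e', he'⟩ ^ r from rfl, map_pow, hwe', ← pow_mul,
        mul_comm, ← hk, pow_orderOf_eq_one]
    have he'L : e' ∉ L := fun h1 => hf' ((form_eq_one_iff P hd he').2 (hcd e' h1).symm)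
    have hpow := (hnotpow d hd hcd hdL r hr h).2
    obtain ⟨i, s, his⟩ := exists_zpow_mul_pow hr hpow (lam ⟨e' ^ r, hZL he'r⟩)
    set a := d ^ (-i) with hadef
    have ha : a ∈ P.M := zpow_mem hd _
    have hca : ∀ l ∈ L, l * a = a * l := fun l hl => (Commute.zpow_right (hcd l hl) (-i)).eq
    have har : a ^ r ∈ L := by
      rw [hadef, ← zpow_natCast, ← zpow_mul, mul_comm, zpow_mul, zpow_natCast]
      exact zpow_mem h _
    set z := ⁅a, e'⁆ with hz
    have hzZ : z ∈ P.Z := P.good.comm _ ha _ he'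
    have hzr : z ^ r = 1 := by
      have h1 : P.χ (⟨z, hzZ⟩ ^ r) = 1 := by
        rw [map_pow,
          show P.χ ⟨z, hzZ⟩ = P.form (π P ⟨a, ha⟩) (π P ⟨e', he'⟩) from rfl, ← map_pow, ← map_pow,
          show (⟨e', he'⟩ : ↥P.M) ^ r = ⟨e' ^ r, pow_mem he' r⟩ from rfl,
          (π_eq_one P (pow_mem he' r)).2 he'r, map_one]
      rw [← map_one P.χ] at h1
      exact congrArg Subtype.val (P.χ_injective h1)
    have hyr : (e' * a) ^ r = e' ^ r * a ^ r := by
      rw [mul_pow_of_central (z := z) (by rw [hz, commutatorElement_def]; group)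
        (P.hcen z hzZ e' he').symm (P.hcen z hzZ a ha).symm r]
      obtain ⟨j, hj⟩ := Nat.Prime.dvd_choose_self hr (k := 2) (by norm_num)
        (lt_of_le_of_ne hr.two_le (fun h2 => by rw [← h2] at hrodd; exact Nat.not_odd_iff_even.2 even_two hrodd))
      rw [hj, pow_mul, hzr, one_pow, one_mul]
    have hcy : ∀ l ∈ L, l * (e' * a) = e' * a * l := fun l hl =>
      (Commute.mul_right (hce' l hl : Commute l e') (hca l hl)).eq
    have hyL : e' * a ∈ L := by
      by_contra hyL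
      have hmem : (e' * a) ^ r ∈ L := by rw [hyr]; exact mul_mem (hZL he'r) har
      refine (hnotpow _ (mul_mem he' ha) hcy hyL r hr hmem).2 s ?_
      have h1 : (⟨(e' * a) ^ r, hmem⟩ : ↥L) = ⟨e' ^ r, hZL he'r⟩ * ⟨d ^ r, h⟩ ^ (-i) :=
        Subtype.ext (by
          show (e' * a) ^ r = e' ^ r * (d ^ r) ^ (-i)
          rw [hyr, hadef, ← zpow_natCast (d ^ (-i)), ← zpow_natCast d r, ← zpow_mul, ← zpow_mul,
            mul_comm (-i)])
      rw [h1, map_mul, map_zpow, his, zpow_neg, mul_right_comm, mul_inv_cancel, one_mul]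
    have h1 : d * (e' * a) = e' * a * d := (hcd _ hyL).symm
    refine hf' ((form_eq_one_iff P hd he').2 (mul_right_cancel (b := a) ?_))
    have h2 : Commute d a := Commute.self_zpow d _
    rw [mul_assoc d e' a, h1, mul_assoc, ← h2.eq, mul_assoc]
  have hoddpow : ∀ k : ℕ, Odd k → ∀ d ∈ P.M, (∀ l ∈ L, l * d = d * l) → d ^ k ∈ L → d ∈ L := by
    intro k
    induction k using Nat.strong_induction_on with
    | _ k ih =>
    intro hk d hd hcd h
    by_cases hk1 : k = 1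
    · rwa [hk1, pow_one] at h
    obtain ⟨r, hr, j, rfl⟩ := Nat.exists_prime_and_dvd hk1
    obtain ⟨hro, hjo⟩ := Nat.odd_mul.1 hk
    refine ih j (lt_mul_of_one_lt_left hjo.pos hr.one_lt) hjo d hd hcd
      (hoddpr (d ^ j) (pow_mem hd j) (fun l hl => (Commute.pow_right (hcd l hl) j).eq) r hr hro ?_)
    rwa [← pow_mul, mul_comm]
  have hsq : ∀ d ∈ P.M, (∀ l ∈ L, l * d = d * l) → d ^ 2 ∈ L := by
    intro d hd hcd
    obtain ⟨k, hk, hk1⟩ : ∃ k, Odd k ∧ (π P ⟨d, hd⟩ ^ 2) ^ k = 1 := by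
      rcases Nat.even_or_odd (orderOf (π P ⟨d, hd⟩)) with ⟨k, hk⟩ | ho
      · refine ⟨k, Nat.not_even_iff_odd.1 fun ⟨j, hj⟩ => not_sq_dvd_orderOf P Nat.prime_two
          (π P ⟨d, hd⟩) ⟨j, by omega⟩, ?_⟩
        rw [← pow_mul, two_mul, ← hk, pow_orderOf_eq_one]
      · exact ⟨_, ho, by rw [← pow_mul, mul_comm, pow_mul, pow_orderOf_eq_one, one_pow]⟩
    refine hoddpow k hk _ (pow_mem hd 2) (fun l hl => (Commute.pow_right (hcd l hl) 2).eq)
      (hZL ((π_eq_one P (pow_mem (pow_mem hd 2) k)).1 ?_))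
    rw [show (⟨(d ^ 2) ^ k, pow_mem (pow_mem hd 2) k⟩ : ↥P.M) = (⟨d, hd⟩ ^ 2) ^ k from rfl,
      map_pow, map_pow, hk1]
  have hmem : ∀ g ∈ P.M, ∀ c : K, g • v = c • v → g ∈ L := hEeig v hvE hv
  by_cases hDL : ∀ d ∈ P.M, (∀ l ∈ L, l * d = d * l) → d ∈ L
  · refine ⟨⟨v, 1, L, lam, hv, hLM, hZL, hLcomm, hlam, hmem, one_mem _,
      fun l _ => by rw [one_mul, mul_one], fun d hd hcd => ⟨(lam ⟨d, hDL d hd hcd⟩ : Kˣ), 0, ?_⟩⟩⟩
    rw [zero_smul, add_zero]
    exact hlam ⟨d, hDL d hd hcd⟩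
  push Not at hDL
  obtain ⟨x, hx, hcx, hxL⟩ := hDL
  obtain ⟨y, hy, hcy, hxy⟩ : ∃ y ∈ P.M, (∀ l ∈ L, l * y = y * l) ∧ x * y ≠ y * x := by
    by_contra! h'
    exact hxL (hdouble x hx h')
  have hyL : y ∉ L := fun h => hxy (hcx y h).symm
  obtain ⟨hq2, hcns⟩ := hnotpow x hx hcx hxL 2 Nat.prime_two (hsq x hx hcx)
  obtain ⟨-, hc'ns⟩ := hnotpow y hy hcy hyL 2 Nat.prime_two (hsq y hy hcy)
  set c := lam ⟨x ^ 2, hsq x hx hcx⟩ with hc
  set c' := lam ⟨y ^ 2, hsq y hy hcy⟩ with hc'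
  have hclass : ∀ {b : Kˣ}, (∀ s : Kˣ, s ^ 2 ≠ b) → ∀ b' : Kˣ, (∀ s : Kˣ, s ^ 2 ≠ b') →
      ∃ t : Kˣ, b' = b * t ^ 2 := by
    intro b hb b' hb'
    obtain ⟨i, s, his⟩ := exists_zpow_mul_pow Nat.prime_two hb b'
    rcases Int.even_or_odd' i with ⟨j, rfl | rfl⟩
    · exfalso
      refine hb' (b ^ j * s) ?_
      rw [his, mul_pow, ← zpow_natCast (b ^ j), ← zpow_mul, mul_comm j]
      rfl
    · refine ⟨b ^ j * s, ?_⟩
      rw [his, zpow_add_one, mul_pow, ← zpow_natCast (b ^ j), ← zpow_mul, mul_comm j]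
      ac_rfl
  have hcomm : ∀ a ∈ P.M, (∀ l ∈ L, l * a = a * l) → a ∉ L → ∀ b ∈ P.M,
      (∀ l ∈ L, l * b = b * l) → b ∉ L → a * b = b * a → a * b ∈ L := by
    intro a ha hca haL b hb hcb hbL hab
    by_contra hn
    obtain ⟨-, h1⟩ := hnotpow a ha hca haL 2 Nat.prime_two (hsq a ha hca)
    obtain ⟨-, h2⟩ := hnotpow b hb hcb hbL 2 Nat.prime_two (hsq b hb hcb)
    have hcab : ∀ l ∈ L, l * (a * b) = a * b * l := fun l hl =>
      (Commute.mul_right (hca l hl : Commute l a) (hcb l hl)).eq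
    obtain ⟨t, ht⟩ := hclass h1 _ h2
    refine (hnotpow _ (mul_mem ha hb) hcab hn 2 Nat.prime_two (hsq _ (mul_mem ha hb) hcab)).2
      (lam ⟨a ^ 2, hsq a ha hca⟩ * t) ?_
    rw [show (⟨(a * b) ^ 2, hsq _ (mul_mem ha hb) hcab⟩ : ↥L) =
        ⟨a ^ 2, hsq a ha hca⟩ * ⟨b ^ 2, hsq b hb hcb⟩ from Subtype.ext (Commute.mul_pow hab 2),
      map_mul, ht, mul_pow, sq (lam ⟨a ^ 2, hsq a ha hca⟩), mul_assoc]
  have hneg : ∀ {a b : A} (ha : a ∈ P.M) (hb : b ∈ P.M), (∀ l ∈ L, l * a = a * l) →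
      (∀ l ∈ L, l * b = b * l) → a * b ≠ b * a →
      ((P.form (π P ⟨a, ha⟩) (π P ⟨b, hb⟩) : Kˣ) : K) = -1 := by
    intro a b ha hb hca hcb hab
    have h2 : P.form (π P ⟨a, ha⟩) (π P ⟨b, hb⟩) ^ 2 = 1 := by
      rw [← MonoidHom.pow_apply, ← map_pow, ← map_pow]
      exact (form_eq_one_iff P (pow_mem ha 2) hb).2 (hcb _ (hsq a ha hca))
    rcases mul_self_eq_one_iff.1 (by rw [← sq, ← Units.val_pow_eq_pow_val, h2, Units.val_one] :
        ((P.form (π P ⟨a, ha⟩) (π P ⟨b, hb⟩) : Kˣ) : K) * _ = 1) with h | h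
    · exact absurd ((form_eq_one_iff P ha hb).1 (Units.val_eq_one.1 h)) hab
    · exact h
  obtain ⟨t, ht⟩ := hclass hcns c' hc'ns
  haveI := Fintype.ofFinite K
  obtain ⟨α, β, hab⟩ : ∃ α β : K, α ^ 2 + β ^ 2 = ((c⁻¹ : Kˣ) : K) := by
    obtain ⟨α, β, h⟩ := FiniteField.exists_root_sum_quadratic
      (f := (Polynomial.X ^ 2 : Polynomial K))
      (g := (Polynomial.X ^ 2 - Polynomial.C ((c⁻¹ : Kˣ) : K)))
      (Polynomial.degree_X_pow 2) (Polynomial.degree_X_pow_sub_C two_pos _) (by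
        have h1 : 1 < Nat.card K := Finite.one_lt_card
        rw [← Nat.card_eq_fintype_card]
        omega)
    refine ⟨α, β, sub_eq_zero.1 ?_⟩
    simpa [add_sub] using h
  have hβ : β ≠ 0 := fun h0 => by
    rw [h0, zero_pow two_ne_zero, add_zero] at hab
    have hα : α ≠ 0 := fun h1 => by
      rw [h1, zero_pow two_ne_zero] at hab
      exact Units.ne_zero _ hab.symm
    refine hcns (Units.mk0 α hα)⁻¹ ?_
    rw [inv_pow, inv_eq_iff_eq_inv, Units.ext_iff, Units.val_pow_eq_pow_val, Units.val_mk0, hab]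
  -- the operator
  have hX : ∀ z ∈ E, x • x • z = (c : K) • z := fun z hz => by
    rw [← mul_smul, ← sq]; exact hz ⟨x ^ 2, hsq x hx hcx⟩
  have hY : ∀ z ∈ E, y • y • z = ((c : K) * (t : K) ^ 2) • z := fun z hz => by
    rw [← mul_smul, ← sq, ← Units.val_pow_eq_pow_val, ← Units.val_mul, ← ht]
    exact hz ⟨y ^ 2, hsq y hy hcy⟩
  have hXY : ∀ z : V, x • y • z = -(y • x • z) := fun z => by
    have h1 : ((P.form (QuotientGroup.mk ⟨x, hx⟩) (QuotientGroup.mk ⟨y, hy⟩) : Kˣ) : K) = -1 :=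
      hneg hx hy hcx hcy hxy
    rw [P.smul_smul_eq hx hy, h1, neg_one_smul]
  let U : V → V := fun z => α • (x • z) + (β / (t : K)) • (y • z)
  have hU : ∀ z ∈ E, U (U z) = z := fun z hz => by
    simp only [U]
    rw [smul_add x, smul_add y, P.linear x (hML hx), P.linear x (hML hx), P.linear y (hML hy),
      P.linear y (hML hy), hX z hz, hY z hz, hXY z]
    simp only [smul_add, smul_smul, smul_neg]
    rw [show α * (c : K) = α * c from rfl]
    have hsum : α * α * (c : K) + β / (t : K) * (β / (t : K)) * ((c : K) * (t : K) ^ 2) = 1 := by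
      have h1 : (c : K) * ((c⁻¹ : Kˣ) : K) = 1 := Units.mul_inv c
      have ht0 : (t : K) ≠ 0 := Units.ne_zero t
      rw [← h1, ← hab]
      field_simp
    calc _ = (α * α * (c : K) + β / (t : K) * (β / (t : K)) * ((c : K) * (t : K) ^ 2)) • z := by
          rw [add_smul, mul_comm (β / (t : K)) α]
          simp only [mul_assoc]
          abel
      _ = z := by rw [hsum, one_smul]
  have hUE : ∀ z ∈ E, U z ∈ E := fun z hz =>
    E.add_mem (E.smul_mem _ (hEinv x hx hcx z hz)) (E.smul_mem _ (hEinv y hy hcy z hz))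
  obtain ⟨z, hzE, hz0, ε, hε⟩ : ∃ z ∈ E, z ≠ 0 ∧ ∃ ε : K, U z = ε • z := by
    by_cases h0 : v + U v = 0
    · exact ⟨v, hvE, hv, -1, by rw [neg_one_smul]; exact eq_neg_of_add_eq_zero_right h0⟩
    · refine ⟨v + U v, E.add_mem hvE (hUE v hvE), h0, 1, ?_⟩
      rw [one_smul]
      rw [show U (v + U v) = U v + U (U v) by simp only [U, smul_add]; abel, hU v hvE, add_comm]
  refine ⟨⟨z, x, L, lam, hz0, hLM, hZL, hLcomm, hzE, hEeig z hzE hz0, hx, hcx, fun d hd hcd => ?_⟩⟩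
  let Pl : Submodule K V := Submodule.span K {z, x • z}
  have hzPl : z ∈ Pl := Submodule.subset_span (Set.mem_insert _ _)
  have hxzPl : x • z ∈ Pl := Submodule.subset_span (Set.mem_insert_of_mem _ rfl)
  have hyzPl : y • z ∈ Pl := by
    have h1 : (β / (t : K)) • (y • z) ∈ Pl := by
      rw [show (β / (t : K)) • (y • z) = ε • z - α • (x • z) by rw [← hε]; simp [U]]
      exact Pl.sub_mem (Pl.smul_mem _ hzPl) (Pl.smul_mem _ hxzPl)
    rwa [Submodule.smul_mem_iff _ (div_ne_zero hβ (Units.ne_zero t))] at h1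
  have hgen : ∀ g ∈ P.M, g • z ∈ Pl → g • x • z ∈ Pl → ∀ p ∈ Pl, g • p ∈ Pl := by
    intro g hg h1 h2 p hp
    obtain ⟨a, b, rfl⟩ := Submodule.mem_span_pair.1 hp
    rw [smul_add, P.linear g (hML hg), P.linear g (hML hg)]
    exact Pl.add_mem (Pl.smul_mem _ h1) (Pl.smul_mem _ h2)
  have hxPl := hgen x hx hxzPl (by rw [hX z hzE]; exact Pl.smul_mem _ hzPl)
  have hyPl := hgen y hy hyzPl (by
    rw [show y • x • z = -(x • y • z) by rw [hXY, neg_neg]]
    exact Pl.neg_mem (hxPl _ hyzPl))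
  have hPlE : Pl ≤ E := Submodule.span_le.2
    (Set.insert_subset hzE (Set.singleton_subset_iff.2 (hEinv x hx hcx z hzE)))
  have hLPl : ∀ l ∈ L, ∀ p ∈ Pl, l • p ∈ Pl := fun l hl p hp => by
    rw [show l • p = _ from hPlE hp ⟨l, hl⟩]; exact Pl.smul_mem _ hp
  refine (Submodule.mem_span_pair.1 (?_ : d • z ∈ Pl)).imp fun a ⟨b, h⟩ => ⟨b, h.symm⟩
  by_cases hdL : d ∈ L
  · exact hLPl d hdL z hzPl
  by_cases hdx : d * x = x * d
  · rw [show d = d * x * (x ^ 2)⁻¹ * x by group, mul_smul, mul_smul]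
    exact hLPl _ (hcomm d hd hcd hdL x hx hcx hxL hdx) _ (hLPl _ (inv_mem (hsq x hx hcx)) _ hxzPl)
  by_cases hdy : d * y = y * d
  · rw [show d = d * y * (y ^ 2)⁻¹ * y by group, mul_smul, mul_smul]
    exact hLPl _ (hcomm d hd hcd hdL y hy hcy hyL hdy) _ (hLPl _ (inv_mem (hsq y hy hcy)) _ hyzPl)
  set e := d * x with hedef
  have hce : ∀ l ∈ L, l * e = e * l := fun l hl =>
    (Commute.mul_right (hcd l hl : Commute l d) (hcx l hl)).eq
  have heL : e ∉ L := fun h => hdx (mul_right_cancel (b := x) (by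
    calc d * x * x = e * x := rfl
      _ = x * e := hcx e h
      _ = x * d * x := (mul_assoc x d x).symm))
  have hey : e * y = y * e := by
    rw [← form_eq_one_iff P (mul_mem hd hx) hy,
      show (⟨e, mul_mem hd hx⟩ : ↥P.M) = ⟨d, hd⟩ * ⟨x, hx⟩ from rfl, map_mul, map_mul,
      MonoidHom.mul_apply, Units.ext_iff, Units.val_mul, hneg hd hy hcd hcy hdy,
      hneg hx hy hcx hcy hxy, neg_mul_neg, one_mul, Units.val_one]
  rw [show d = e * y * (y ^ 2)⁻¹ * (y * ((x ^ 2)⁻¹ * x)) by rw [hedef]; group,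
    mul_smul (e * y * (y ^ 2)⁻¹), mul_smul (e * y), mul_smul y, mul_smul (x ^ 2)⁻¹]
  exact hLPl _ (hcomm e (mul_mem hd hx) hce heL y hy hcy hyL hey) _
    (hLPl _ (inv_mem (hsq y hy hcy)) _ (hyPl _ (hLPl _ (inv_mem (hsq x hx hcx)) _ hxzPl)))

end Cfsg.Agent.BaseThree
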