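import Cfsg.Agent.Lib.BaseThree.Basic
import Cfsg.Agent.Lib.BaseThree.Asym
import Cfsg.Agent.Lib.BaseThree.Frame
import Cfsg.Agent.Lib.OddBaseTwo.Count
import Cfsg.Agent.Lib.SolvableTransitive.Abelian
import Cfsg.Agent.Lib.SolvableTransitive.Field

/-!
# The primitive case for bases of size three

* `hasBase3_of_frame`: three vectors with trivial stabiliser, built on a line with largest
  stabiliser in the class two section and an asymmetric colouring of the cosets of its centraliser.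
* `hasBase3_primitive`: solvable groups all whose abelian normal subgroups span fields.
-/

set_option autoImplicit false
set_option linter.unusedSectionVars false
set_option linter.style.haveILetI false

namespace Cfsg.Agent.BaseThree

open scoped commutatorElement
open OddBaseTwo SolvableTransitive

universe u v w

section Frame

variable {A : Type u} [Group A] [Finite A] {K : Type w} [Field K] [Finite K] {V : Type v}
  [AddCommGroup V] [Module K V] [DistribMulAction A V] [FaithfulSMul A V] [Finite V] [Nontrivial V]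
  (P : PrimData A K V)

theorem hasBase3_of_frame (σ : A → (K ≃+* K))
    (hσ : ∀ (g : A) (c : K) (x : V), g • c • x = σ g c • (g • x))
    (hker : ∀ g : A, σ g = RingEquiv.refl K → g ∈ P.C) (hCZ : P.C ≠ P.Z) : HasBase3 A V := by
  classical
  obtain ⟨fr⟩ := exists_frame P
  obtain ⟨v, w, L, lam, hv, hLM, hZL, -, hlam, hmemL, hw, hcw, hspan⟩ := fr
  have hMC : ∀ {g : A}, g ∈ P.M → g ∈ P.C := fun hg => P.good.le_centralizer hg
  have hML : ∀ {g : A}, g ∈ P.M → ∀ (c : K) (x : V), g • c • x = c • g • x :=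
    fun hg => P.linear _ (hMC hg)
  set Dw : Subgroup P.W := perp P.form ((L.subgroupOf P.M).map (π P)) with hDw
  have hmemD : ∀ {g : A} (hg : g ∈ P.M), π P ⟨g, hg⟩ ∈ Dw ↔ ∀ l ∈ L, l * g = g * l := by
    intro g hg
    refine ⟨fun h l hl => ((form_eq_one_iff P hg (hLM hl)).1 (h _ ⟨⟨l, hLM hl⟩, hl, rfl⟩)).symm, ?_⟩
    rintro h _ ⟨⟨l, hlM⟩, hl, rfl⟩
    exact (form_eq_one_iff P hg hlM).2 (h l hl).symm
  let p : ↥P.M →* P.W ⧸ Dw := (QuotientGroup.mk' Dw).comp (π P)
  have hp : Function.Surjective p :=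
    (QuotientGroup.mk'_surjective _).comp (QuotientGroup.mk'_surjective _)
  have hpone : ∀ {g : A} (hg : g ∈ P.M), p ⟨g, hg⟩ = 1 ↔ ∀ l ∈ L, l * g = g * l := fun hg =>
    (QuotientGroup.eq_one_iff _).trans (hmemD hg)
  have hpick : ∀ y : P.W ⧸ Dw, ∃ x : ↥P.M, p x = y ∧ (y = 1 → x = 1) := by
    intro y
    by_cases hy : y = 1
    · exact ⟨1, by rw [hy, map_one], fun _ => rfl⟩
    · obtain ⟨x, hx⟩ := hp y
      exact ⟨x, hx, fun h => absurd h hy⟩
  choose X hX hX1 using hpick
  haveI := Fintype.ofFinite (P.W ⧸ Dw)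
  -- coordinates
  let E : Submodule K V :=
    { carrier := {x | ∀ l : ↥L, (l : A) • x = ((lam l : Kˣ) : K) • x}
      add_mem' := fun {x y} hx hy l => by rw [smul_add, hx l, hy l, smul_add]
      zero_mem' := fun l => by rw [smul_zero, smul_zero]
      smul_mem' := fun c x hx l => by rw [hML (hLM l.2), hx l, smul_comm] }
  have hvE : v ∈ E := hlam
  have hEcomm : ∀ d ∈ P.M, (∀ l ∈ L, l * d = d * l) → ∀ x ∈ E, d • x ∈ E := fun d hd hcd x hx l => by
    rw [← mul_smul, hcd l l.2, mul_smul, hx l, hML hd]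
  have hwvE : w • v ∈ E := hEcomm w hw hcw v hvE
  have hwv0 : w • v ≠ 0 := fun h => hv ((smul_eq_zero_iff_eq w).1 h)
  have huniq : ∀ e e' : P.W ⧸ Dw → V, (∀ y, e y ∈ E) → (∀ y, e' y ∈ E) →
      ∑ y, (X y : A) • e y = ∑ y, (X y : A) • e' y → ∀ y, e y = e' y := by
    intro e e' he he' hsum y
    suffices h : ∀ f : P.W ⧸ Dw → V, (∀ y, f y ∈ E) → ∑ y, (X y : A) • f y = 0 → ∀ y, f y = 0 by
      exact sub_eq_zero.1 (h (fun y => e y - e' y) (fun y => E.sub_mem (he y) (he' y))
        (by simp only [smul_sub, Finset.sum_sub_distrib, hsum, sub_self]) y)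
    intro f hf hf0 y
    let ψ : P.W ⧸ Dw → (↥L →* K) := fun y =>
      (Units.coeHom K).comp ((P.form.flip (π P (X y))).comp ((π P).comp (Subgroup.inclusion hLM)))
    have hψinj : Function.Injective ψ := by
      intro a b hab
      rw [← hX a, ← hX b]
      refine QuotientGroup.eq.2 ?_
      rintro _ ⟨⟨l, hlM⟩, hl, rfl⟩
      have h1 : P.form (π P ⟨l, hlM⟩) (π P (X a)) = P.form (π P ⟨l, hlM⟩) (π P (X b)) :=
        Units.ext (DFunLike.congr_fun hab (⟨l, hl⟩ : ↥L))
      have h2 := pairing_skew P.form P.halt (π P ⟨l, hlM⟩) ((π P (X a))⁻¹ * π P (X b))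
      rw [map_mul, map_inv, h1, inv_mul_cancel, one_mul] at h2
      exact h2
    have hli := (linearIndependent_monoidHom ↥L K).comp ψ hψinj
    have hl0 : ∀ l : ↥L, ∑ y, ψ y l • ((X y : A) • f y) = 0 := by
      intro l
      have h1 : (l : A) • ∑ y, (X y : A) • f y = 0 := by rw [hf0, smul_zero]
      have h2 : (l : A) • ∑ y, (X y : A) • f y =
          ((lam l : Kˣ) : K) • ∑ y, ψ y l • ((X y : A) • f y) := by
        rw [Finset.smul_sum, Finset.smul_sum]
        refine Finset.sum_congr rfl fun y _ => ?_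
        rw [P.smul_smul_eq (hLM l.2) (X y).2, hf y l, hML (X y).2, smul_smul, smul_smul,
          mul_comm ((lam l : Kˣ) : K)]
        rfl
      rw [h2] at h1
      exact (smul_eq_zero.1 h1).resolve_left (Units.ne_zero _)
    refine (smul_eq_zero_iff_eq (X y : A)).1 ((Module.forall_dual_apply_eq_zero_iff K _).1 fun φ => ?_)
    refine Fintype.linearIndependent_iff.1 hli (fun y => φ ((X y : A) • f y)) (funext fun l => ?_) y
    rw [Finset.sum_apply, Pi.zero_apply, ← map_zero φ, ← hl0 l, map_sum]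
    refine Finset.sum_congr rfl fun y _ => ?_
    simp only [Function.comp_apply, Pi.smul_apply, smul_eq_mul, map_smul, mul_comm]
  -- the colouring
  obtain ⟨r, hr, hrW⟩ := Nat.exists_prime_and_dvd (P.one_lt_W hCZ).ne'
  obtain ⟨a, ha⟩ := IsCyclic.exists_monoid_generator (α := Kˣ)
  have ha1 : (a : K) ≠ 1 := fun h => by
    have h1 : 2 ≤ Nat.card Kˣ := by
      rw [Nat.card_units]
      exact le_trans hr.two_le (Nat.le_of_dvd
        (Nat.sub_pos_of_lt Finite.one_lt_card) (P.dvd_W hr hrW))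
    haveI : Subsingleton Kˣ := subsingleton_of_forall_eq 1 fun x => by
      obtain ⟨n, hn⟩ := ha x
      rw [← hn]
      show a ^ n = 1
      rw [Units.val_eq_one.1 h, one_pow]
    have h2 : Nat.card Kˣ = 1 := Nat.card_of_subsingleton 1
    omega
  have hsf : ∀ r : ℕ, r.Prime → ∀ x : Additive (P.W ⧸ Dw), r • r • x = 0 → r • x = 0 := by
    intro r hr x hx
    obtain ⟨y, rfl⟩ := Additive.ofMul.surjective x
    obtain ⟨z, rfl⟩ := QuotientGroup.mk_surjective y
    rw [← ofMul_pow, ← ofMul_pow, ← pow_mul, ofMul_eq_zero] at hx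
    rw [← ofMul_pow, ofMul_eq_zero]
    have h1 : orderOf (QuotientGroup.mk z : P.W ⧸ Dw) ∣ orderOf z :=
      orderOf_map_dvd (QuotientGroup.mk' Dw) z
    have h2 : orderOf (QuotientGroup.mk z : P.W ⧸ Dw) ∣ r ^ 2 := by
      rw [sq]; exact orderOf_dvd_of_pow_eq_one hx
    obtain ⟨i, hi, hio⟩ := (Nat.dvd_prime_pow hr).1 h2
    refine orderOf_dvd_iff_pow_eq_one.1 ?_
    have hi2 : i ≠ 2 := fun h => by
      rw [hio, h, sq] at h1
      exact not_sq_dvd_orderOf P hr z h1
    rw [hio]
    exact (pow_dvd_pow r (show i ≤ 1 by omega)).trans (by rw [pow_one])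
  have hrq : ∀ r : ℕ, r.Prime → r ∣ Nat.card (Additive (P.W ⧸ Dw)) → r ∣ Nat.card K - 1 := by
    intro r hr hd
    rw [Nat.card_congr Additive.toMul] at hd
    exact P.dvd_W hr (hd.trans (Subgroup.card_quotient_dvd_card Dw))
  obtain ⟨S, G, col, hS⟩ :=
    exists_asym_colouring (F := Additive (P.W ⧸ Dw)) (K := K) (Units.ne_zero a) ha1 hsf hrq
  let ev : P.W ⧸ Dw → V := fun y => if Additive.ofMul y ∈ S then w • v else 0
  let cv : P.W ⧸ Dw → V := fun y => col (Additive.ofMul y) • v
  refine ⟨v, ∑ y, (X y : A) • ev y, ∑ y, (X y : A) • cv y, fun g hgv hg2 hg3 => ?_⟩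
  suffices hg1 : g = 1 by intro t; rw [hg1, one_smul]
  -- `g` normalises `L` and the centraliser of `L`
  have hMn : ∀ {k x : A}, x ∈ P.M → k * x * k⁻¹ ∈ P.M := fun {k x} hx => P.good.normal.conj_mem x hx k
  have hgvi : g⁻¹ • v = v := by rw [inv_smul_eq_iff, hgv]
  have hconjL : ∀ k : A, k • v = v → ∀ l ∈ L, k * l * k⁻¹ ∈ L := by
    intro k hk l hl
    refine hmemL _ (hMn (hLM hl)) (σ k (lam ⟨l, hl⟩ : Kˣ)) ?_
    rw [mul_smul, mul_smul, (inv_smul_eq_iff.2 hk.symm : k⁻¹ • v = v), hlam ⟨l, hl⟩, hσ, hk]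
  have hpg : ∀ (k : A), k • v = v → ∀ {x : A}, x ∈ P.M → (∀ l ∈ L, l * x = x * l) →
      ∀ l ∈ L, l * (k * x * k⁻¹) = k * x * k⁻¹ * l := by
    intro k hk x hx hcx l hl
    have h1 := hcx _ (hconjL k⁻¹ (by rw [inv_smul_eq_iff, hk]) l hl)
    rw [inv_inv] at h1
    calc l * (k * x * k⁻¹) = k * (k⁻¹ * l * k * x) * k⁻¹ := by group
      _ = k * x * k⁻¹ * l := by rw [h1]; group
  have hgE : ∀ x ∈ E, g • x ∈ E := by
    intro x hx l
    have hl' : g⁻¹ * l * g ∈ L := by simpa using hconjL g⁻¹ hgvi l l.2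
    have key : ∀ y ∈ E, g • y = g • y → (l : A) • g • y = σ g (lam ⟨_, hl'⟩ : Kˣ) • g • y := by
      intro y hy _
      rw [← hσ, ← hy ⟨_, hl'⟩, ← mul_smul, ← mul_smul]
      congr 1
      show (l : A) * g = g * (g⁻¹ * l * g)
      group
    have h1 := key v hvE rfl
    rw [hgv, hlam l] at h1
    rw [key x hx rfl, ← smul_left_injective K hv h1]
  -- the induced map on the cosets
  let c : ↥P.M ≃* ↥P.M := MulAut.conjNormal g
  have hcc : ∀ x : ↥P.M, ((c x : ↥P.M) : A) = g * x * g⁻¹ := fun x => MulAut.conjNormal_apply g x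
  have hDconj : Dw.map ((P.conj g).toMonoidHom) = Dw := by
    refine Subgroup.eq_of_le_of_card_ge ?_
      (Nat.card_congr (Dw.equivMapOfInjective _ (P.conj g).injective).toEquiv).le
    rintro _ ⟨y, hy, rfl⟩
    obtain ⟨⟨x, hx⟩, rfl⟩ := QuotientGroup.mk_surjective y
    show π P (c ⟨x, hx⟩) ∈ Dw
    rw [show c ⟨x, hx⟩ = ⟨g * x * g⁻¹, hMn hx⟩ from Subtype.ext (hcc _)]
    exact (hmemD _).2 (hpg g hgv hx ((hmemD hx).1 hy))
  let hm : P.W ⧸ Dw ≃* P.W ⧸ Dw := QuotientGroup.congr Dw Dw (P.conj g) hDconj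
  have hmp : ∀ x : ↥P.M, hm (p x) = p (c x) := fun x => rfl
  let d : P.W ⧸ Dw → ↥P.M := fun y => (X (hm y))⁻¹ * c (X y)
  have hdp : ∀ y, ∀ l ∈ L, l * (d y : A) = (d y : A) * l := fun y => (hpone (d y).2).1 (by
    rw [show (⟨(d y : A), (d y).2⟩ : ↥P.M) = d y from rfl]
    simp only [d]
    rw [map_mul, map_inv, hX, ← hmp, hX, inv_mul_cancel])
  have hgX : ∀ y (x : V), g • (X y : A) • x = (X (hm y) : A) • ((d y : A) • g • x) := by
    intro y x
    rw [← mul_smul, ← mul_smul, ← mul_smul]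
    congr 1
    simp only [d, Subgroup.coe_mul, Subgroup.coe_inv, hcc]
    group
  have hfix : ∀ e : P.W ⧸ Dw → V, (∀ y, e y ∈ E) →
      g • ∑ y, (X y : A) • e y = ∑ y, (X y : A) • e y → ∀ y, e (hm y) = (d y : A) • g • e y := by
    intro e he heq y
    have h1 : g • ∑ y, (X y : A) • e y =
        ∑ y, (X y : A) • ((d (hm.symm y) : A) • g • e (hm.symm y)) := by
      rw [Finset.smul_sum]
      refine Fintype.sum_equiv hm.toEquiv _ _ fun z => ?_
      show _ = (X (hm z) : A) • ((d (hm.symm (hm z)) : A) • g • e (hm.symm (hm z)))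
      rw [hm.symm_apply_apply, hgX]
    rw [h1] at heq
    have h2 := huniq _ _ (fun y => hEcomm _ (d (hm.symm y)).2 (hdp _) _ (hgE _ (he _))) he heq (hm y)
    rw [hm.symm_apply_apply] at h2
    exact h2.symm
  have hev := hfix ev (fun y => by simp only [ev]; split_ifs; exacts [hwvE, E.zero_mem]) hg2
  have hcv := hfix cv (fun y => E.smul_mem _ hvE) hg3
  have hd1 : ∀ x : V, (d 1 : A) • x = x := fun x => by
    simp only [d, map_one, hX1 1 rfl, inv_one, one_mul, Subgroup.coe_one, one_smul]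
  have hgwv : g • w • v = w • v := by
    have h := hev 1
    rw [map_one, hd1] at h
    have h1 : ev 1 = w • v := if_pos hS.zero_mem
    rw [h1] at h
    exact h.symm
  let h : Additive (P.W ⧸ Dw) ≃+ Additive (P.W ⧸ Dw) := MulEquiv.toAdditive hm
  have hh : ∀ y, h (Additive.ofMul y) = Additive.ofMul (hm y) := fun y => rfl
  have hSiff : ∀ y, Additive.ofMul (hm y) ∈ S ↔ Additive.ofMul y ∈ S := by
    intro y
    have := hev y
    simp only [ev] at this
    split_ifs at this with h1 h2 h2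
    · exact iff_of_true h1 h2
    · rw [smul_zero, smul_zero] at this
      exact absurd this hwv0
    · rw [hgwv] at this
      exact absurd ((smul_eq_zero_iff_eq _).1 this.symm) hwv0
    · exact iff_of_false h1 h2
  have hdv : ∀ y, Additive.ofMul y ∈ S → (d y : A) • v = v := by
    intro y hy
    have h1 := hev y
    simp only [ev, if_pos hy, if_pos ((hSiff y).2 hy), hgwv] at h1
    have hL : (d y : A) ∈ L := by
      have h2 := P.smul_smul_eq (d y).2 hw v
      rw [← h1, ← hML hw] at h2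
      exact hmemL _ (d y).2 _
        ((eq_inv_smul_iff₀ (Units.ne_zero _)).2 (smul_left_cancel w h2).symm)
    have h3 : (d y : A) • w • v = w • (d y : A) • v := by
      rw [← mul_smul, ← mul_smul, hcw _ hL]
    rw [h3] at h1
    exact smul_left_cancel w h1.symm
  have hσ1 : σ g = RingEquiv.refl K := by
    have h1 := hcv 1
    rw [map_one, hd1] at h1
    have h0 : col (Additive.ofMul (1 : P.W ⧸ Dw)) = a := hS.colour_zero
    simp only [cv, h0, hσ, hgv] at h1
    have h2 : σ g (a : K) = a := (smul_left_injective K hv h1).symm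
    refine RingEquiv.ext fun x => ?_
    by_cases hx : x = 0
    · rw [hx, map_zero]; rfl
    · obtain ⟨n, hn⟩ := ha (Units.mk0 x hx)
      have hn' : (a : K) ^ n = x := by
        rw [← Units.val_pow_eq_pow_val]
        exact congrArg Units.val hn
      rw [← hn', map_pow, h2]
      rfl
  have hgC : g ∈ P.C := hker g hσ1
  have hcol : ∀ y, col (Additive.ofMul (hm y)) • v = col (Additive.ofMul y) • ((d y : A) • v) := by
    intro y
    have h1 := hcv y
    simp only [cv] at h1
    rw [P.linear g hgC, hgv, hML (d y).2] at h1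
    exact h1
  have hid : ∀ y, hm y = y := by
    intro y
    refine Additive.ofMul.injective (hS.rigid h (fun z => hSiff z.toMul) (fun z hz => ?_)
      (fun z => ?_) (Additive.ofMul y))
    · have h1 := hcol z.toMul
      rw [hdv z.toMul hz] at h1
      exact smul_left_injective K hv h1
    · have h1 := hcol z.toMul
      have h2 : (d z.toMul : A) • v ≠ 0 := fun h0 => hv ((smul_eq_zero_iff_eq _).1 h0)
      constructor
      · intro h0
        rw [show Additive.ofMul (hm z.toMul) = h z from rfl, h0, zero_smul, eq_comm, smul_eq_zero] at h1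
        exact h1.resolve_right h2
      · intro h0
        rw [show Additive.ofMul z.toMul = z from rfl, h0, zero_smul, smul_eq_zero] at h1
        exact h1.resolve_right hv
  -- elements fixing everything in sight are trivial
  have hgen : ∀ T : Subgroup A, (∀ x ∈ P.M, (∀ l ∈ L, l * x = x * l) → x ∈ T) →
      (∀ y, Additive.ofMul y ∈ G → (X y : A) ∈ T) → P.M ≤ T := by
    intro T hT1 hT2 x hx
    have hcl : Additive.ofMul (p ⟨x, hx⟩) ∈
        Subgroup.toAddSubgroup ((T.subgroupOf P.M).map p) := by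
      refine (AddSubgroup.closure_le _).2 ?_ (hS.closure_eq ▸ AddSubgroup.mem_top _)
      intro z hz
      exact ⟨X z.toMul, hT2 _ hz, hX _⟩
    obtain ⟨⟨x', hx'⟩, hx'T, hxx⟩ := hcl
    have h1 : p ⟨x'⁻¹ * x, mul_mem (inv_mem hx') hx⟩ = 1 := by
      rw [show (⟨x'⁻¹ * x, _⟩ : ↥P.M) = ⟨x', hx'⟩⁻¹ * ⟨x, hx⟩ from rfl, map_mul, map_inv, inv_mul_eq_one]
      exact hxx
    have := T.mul_mem (show x' ∈ T from hx'T) (hT1 _ (mul_mem (inv_mem hx') hx) ((hpone _).1 h1))
    rwa [mul_inv_cancel_left] at this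
  have hkill : ∀ δ ∈ P.M, (∀ l ∈ L, l * δ = δ * l) → δ • v = v →
      (∀ y, Additive.ofMul y ∈ G → δ • (X y : A) • v = (X y : A) • v) → δ = 1 := by
    intro δ hδ hcδ hδv hδX
    have hδL : δ ∈ L := hmemL δ hδ 1 (by rw [one_smul, hδv])
    have hZ : δ ∈ P.Z := by
      refine P.good.center δ hδ fun x hx => ?_
      have hle : P.M ≤ Subgroup.centralizer {δ} := hgen _
        (fun x hx hcx => Subgroup.mem_centralizer_singleton_iff.2 (hcx δ hδL).symm) (fun y hy => by
          have h1 := P.smul_smul_eq hδ (X y).2 v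
          rw [hδX y hy, hδv] at h1
          have hne : (X y : A) • v ≠ 0 := fun h => hv ((smul_eq_zero_iff_eq _).1 h)
          have h2 : ((P.form (π P ⟨δ, hδ⟩) (π P (X y)) : Kˣ) : K) = 1 :=
            smul_left_injective K hne (h1.symm.trans (one_smul K _).symm)
          exact Subgroup.mem_centralizer_singleton_iff.2
            ((form_eq_one_iff P hδ (X y).2).1 (Units.val_eq_one.1 h2)).symm)
      exact (Subgroup.mem_centralizer_singleton_iff.1 (hle hx)).symm
    by_cases h1 : (⟨δ, hZ⟩ : ↥P.Z) = 1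
    · exact congrArg Subtype.val h1
    · exact absurd (P.fix_Z h1 hδv) hv
  have hfixX : ∀ y, Additive.ofMul y ∈ S →
      g • (X y : A) • v = (X y : A) • v ∧ g • (X y : A) • w • v = (X y : A) • w • v := by
    intro y hy
    refine ⟨by rw [hgX, hid, hgv, hdv y hy], ?_⟩
    have h1 := hev y
    rw [hid] at h1
    simp only [ev, if_pos hy] at h1
    rw [hgX, hid, ← h1]
  have hGfix : ∀ y, Additive.ofMul y ∈ G → g • (X y : A) • v = (X y : A) • v := fun y hy =>
    (hfixX y (hS.subset hy)).1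
  have hcd : ∀ x ∈ P.M, (∀ l ∈ L, l * x = x * l) → g * x = x * g := by
    intro x hx hcx
    have hgx : g • x • v = x • v := by
      obtain ⟨α, β, h1⟩ := hspan x hx hcx
      rw [h1, smul_add, P.linear g hgC, P.linear g hgC, hgv, hgwv]
    suffices h1 : x⁻¹ * (g * x * g⁻¹) = 1 from mul_inv_eq_iff_eq_mul.1 (inv_mul_eq_one.1 h1).symm
    refine hkill _ (mul_mem (inv_mem hx) (hMn hx)) (fun l hl => ?_) ?_ fun y hy => ?_
    · exact (Commute.mul_right (Commute.inv_right (hcx l hl) : Commute l x⁻¹)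
        (hpg g hgv hx hcx l hl)).eq
    · rw [mul_smul, mul_smul, mul_smul, hgvi, hgx, inv_smul_smul]
    · rw [mul_smul, mul_smul, mul_smul, (inv_smul_eq_iff.2 (hGfix y hy).symm : g⁻¹ • (X y : A) • v = _),
        inv_smul_eq_iff, P.smul_smul_eq hx (X y).2 v, P.linear g hgC]
      obtain ⟨α, β, h1⟩ := hspan x hx hcx
      rw [h1, smul_add (X y : A), hML (X y).2, hML (X y).2, smul_add g, P.linear g hgC, P.linear g hgC,
        (hfixX y (hS.subset hy)).1, (hfixX y (hS.subset hy)).2]
  have hdG : ∀ y, Additive.ofMul y ∈ G → (d y : A) = 1 := by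
    intro y hy
    refine hkill _ (d y).2 (hdp y) (hdv y (hS.subset hy)) fun z hz => ?_
    have hyz : Additive.ofMul (y * z) ∈ S := hS.add_mem _ hy _ hz
    let e : ↥P.M := (X (y * z))⁻¹ * (X y * X z)
    have he : p e = 1 := by simp only [e, map_mul, map_inv, hX, inv_mul_cancel]
    obtain ⟨α, β, h1⟩ := hspan e e.2 ((hpone e.2).1 he)
    have h2 : (X y : A) • (X z : A) • v = (X (y * z) : A) • (e : A) • v := by
      rw [← mul_smul, ← mul_smul]
      congr 1
      simp only [e, Subgroup.coe_mul, Subgroup.coe_inv, mul_inv_cancel_left]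
    have h3 : g • (X y : A) • (X z : A) • v = (X y : A) • (X z : A) • v := by
      rw [h2, h1, smul_add (X (y * z) : A), hML (X (y * z)).2, hML (X (y * z)).2, smul_add g,
        P.linear g hgC, P.linear g hgC, (hfixX _ hyz).1, (hfixX _ hyz).2]
    rw [hgX, hid, hGfix z hz] at h3
    exact smul_left_cancel _ h3
  have hM : P.M ≤ Subgroup.centralizer {g} := hgen _
    (fun x hx hcx => Subgroup.mem_centralizer_singleton_iff.2 (hcd x hx hcx).symm) fun y hy => by
      have h1 : g * (X y : A) * g⁻¹ = X y := by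
        have h2 := hdG y hy
        simp only [d, hid, Subgroup.coe_mul, Subgroup.coe_inv, hcc, inv_mul_eq_one] at h2
        exact h2.symm
      exact Subgroup.mem_centralizer_singleton_iff.2 (mul_inv_eq_iff_eq_mul.1 h1).symm
  have hgZ : g ∈ P.Z := P.cent g hgC fun y hy =>
    (Subgroup.mem_centralizer_singleton_iff.1 (hM hy)).symm
  by_cases h1 : (⟨g, hgZ⟩ : ↥P.Z) = 1
  · exact congrArg Subtype.val h1
  · exact absurd (P.fix_Z h1 hgv) hv

end Frame

theorem hasBase3_primitive {A : Type u} [Group A] [Finite A] {V : Type v} [AddCommGroup V]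
    [Finite V] [Nontrivial V] [DistribMulAction A V] [FaithfulSMul A V] (hsol : Group.IsSolvable A)
    (hfield : ∀ Z : Subgroup A, Z.Normal → IsMulCommutative ↥Z → IsField ↥(spanRing V Z)) :
    HasBase3 A V := by
  classical
  obtain ⟨Z, hZn, hZ, hmax⟩ := exists_maximal_abelian_normal (G := A)
  haveI := hZn
  letI : Field ↥(spanRing V Z) := (hfield Z hZn hZ).toField
  haveI : Finite (AddMonoid.End V) :=
    Finite.of_injective (fun f => (f : V → V)) DFunLike.coe_injective
  obtain ⟨v₀, hv₀⟩ := exists_ne (0 : V)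
  have hlin : ∀ g ∈ Subgroup.centralizer (Z : Set A), ∀ (c : ↥(spanRing V Z)) (x : V),
      g • c • x = c • g • x :=
    fun g hg c x => DFunLike.congr_fun (spanRing_commute hg c.2) x
  let χ : ↥Z →* (↥(spanRing V Z))ˣ :=
    MonoidHom.toHomUnits (((toEnd V).comp Z.subtype).codRestrict (spanRing V Z)
      fun a => toEnd_mem_spanRing a.2)
  have hχ : ∀ (a : ↥Z) (x : V),
      (a : A) • x = ((χ a : (↥(spanRing V Z))ˣ) : ↥(spanRing V Z)) • x := fun a x => rfl
  obtain ⟨M, hM, hcent⟩ := exists_goodSection hsol hZ hmax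
  let P : PrimData A ↥(spanRing V Z) V := ⟨Z, M, χ, hZn, hχ, hlin, hM, hcent⟩
  have hker : ∀ g : A, galois V Z g = RingEquiv.refl _ → g ∈ P.C := fun g h3 => by
    show g ∈ Subgroup.centralizer (Z : Set A)
    rw [← ker_galois (V := V) Z]
    exact h3
  by_cases hCZ : P.C = P.Z
  swap
  · exact hasBase3_of_frame P (fun g => galois V Z g) (fun g c x => smul_apply_eq_galois Z g c x)
      hker hCZ
  obtain ⟨a, ha⟩ := IsCyclic.exists_monoid_generator (α := (↥(spanRing V Z))ˣ)
  refine ⟨v₀, (a : ↥(spanRing V Z)) • v₀, v₀, fun g hg1 hg2 _ z => ?_⟩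
  have h2 : galois V Z g (a : ↥(spanRing V Z)) = a := by
    have h := smul_apply_eq_galois Z g (a : ↥(spanRing V Z)) v₀
    rw [hg1] at h
    exact smul_left_injective _ hv₀ (h.symm.trans hg2)
  have h3 : galois V Z g = RingEquiv.refl _ := by
    refine RingEquiv.ext fun x => ?_
    by_cases hx : x = 0
    · rw [hx, map_zero]; rfl
    · obtain ⟨n, hn⟩ := ha (Units.mk0 x hx)
      have hn' : (a : ↥(spanRing V Z)) ^ n = x := by
        rw [← Units.val_pow_eq_pow_val]
        exact congrArg Units.val hn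
      rw [← hn', map_pow, h2]
      rfl
  have hgC := hker g h3
  rw [hCZ] at hgC
  by_cases hg : (⟨g, hgC⟩ : ↥P.Z) = 1
  · rw [show g = 1 from congrArg Subtype.val hg, one_smul]
  · exact absurd (P.fix_Z hg hg1) hv₀

end Cfsg.Agent.BaseThree
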