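import Cfsg.Agent.Lib.BaseThree.Decomp
import Cfsg.Agent.Lib.BaseThree.Primitive
import Cfsg.Agent.Lib.OddBaseTwo.Main

/-!
# Completely reducible solvable linear groups have bases of size three

* `hasBase3`: a solvable group acting completely reducibly on a finite abelian group has three
  vectors such that what fixes all three fixes everything.
* `exists_triple_stabilizer`: for a faithful action, only the identity fixes all three.
-/

set_option autoImplicit false
set_option linter.style.haveILetI false

namespace Cfsg.Agent.BaseThree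

open OddBaseTwo SolvableTransitive

universe u v

theorem hasBase3_irreducible {A : Type u} [Group A] [Finite A] {V : Type u} [AddCommGroup V]
    [Finite V] [Nontrivial V] [DistribMulAction A V] [FaithfulSMul A V]
    (hB : BaseBelow3.{u} (Nat.card V)) (hsol : Group.IsSolvable A) (hirr : IsIrr A V) :
    HasBase3 A V := by
  by_cases hfield : ∀ Z : Subgroup A, Z.Normal → IsMulCommutative ↥Z → IsField ↥(spanRing V Z)
  · exact hasBase3_primitive hsol hfield
  push Not at hfield
  obtain ⟨Z, hZn, hZ, hnot⟩ := hfield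
  haveI := hZn
  obtain ⟨ι, _, _, W, hW, h2⟩ := (isField_or_decomp hirr Z hZ).resolve_left hnot
  exact hasBase3_of_decomp hB hsol hirr hW h2

theorem baseBelow3 : ∀ n : ℕ, BaseBelow3.{u} n := by
  intro n
  induction n using Nat.strong_induction_on with
  | _ n ih =>
  intro A _ _ V _ _ _ hlt hsol hcr
  have hB : BaseBelow3.{u} (Nat.card V) := ih _ hlt
  rcases subsingleton_or_nontrivial V with hV | hV
  · exact ⟨0, 0, 0, fun a _ _ _ z => Subsingleton.elim _ _⟩
  by_cases hirr : IsIrr A V
  swap
  · unfold IsIrr at hirr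
    push Not at hirr
    obtain ⟨U, hU, hU0, hUt⟩ := hirr
    obtain ⟨W, hW, h1, h2⟩ := hcr U hU
    have hWt : W ≠ ⊤ := fun h => hU0 (by rwa [h, inf_top_eq] at h1)
    exact hasBase3_of_complement hU hW h1 h2
      (by letI := subAction U hU; exact hB A U (card_lt_of_ne_top hUt) hsol (isCR_subAction hcr hU))
      (by letI := subAction W hW; exact hB A W (card_lt_of_ne_top hWt) hsol (isCR_subAction hcr hW))
  letI := rangeAction A V
  haveI := hsol
  obtain ⟨x, y, z, hxyz⟩ := hasBase3_irreducible (A := (MulAction.toPermHom A V).range) (V := V) hB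
    (Group.isSolvable_of_surjective (MulAction.toPermHom A V).rangeRestrict_surjective)
    (fun U hU => hirr U fun a w hw => hU ((MulAction.toPermHom A V).rangeRestrict a) w hw)
  exact ⟨x, y, z, fun a h1 h2 h3 => hxyz ((MulAction.toPermHom A V).rangeRestrict a) h1 h2 h3⟩

/-- A solvable group acting completely reducibly has a base of size three. -/
theorem hasBase3 {A : Type u} [Group A] [Finite A] {V : Type v} [AddCommGroup V] [Finite V]
    [DistribMulAction A V] (hsol : Group.IsSolvable A) (hcr : IsCR A V) : HasBase3 A V := by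
  letI := rangeAction A V
  haveI := hsol
  have hinv : ∀ U : AddSubgroup V, IsInv (MulAction.toPermHom A V).range V U ↔ IsInv A V U :=
    fun U => ⟨fun h a => h ((MulAction.toPermHom A V).rangeRestrict a), fun h r => by
      obtain ⟨_, a, rfl⟩ := r
      exact h a⟩
  obtain ⟨x, y, z, hxyz⟩ := baseBelow3.{v} (Nat.card V + 1) (MulAction.toPermHom A V).range V
    (Nat.lt_succ_self _)
    (Group.isSolvable_of_surjective (MulAction.toPermHom A V).rangeRestrict_surjective)
    (fun U hU => by
      obtain ⟨W, hW, h⟩ := hcr U ((hinv U).1 hU)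
      exact ⟨W, (hinv W).2 hW, h⟩)
  exact ⟨x, y, z, fun a h1 h2 h3 => hxyz ((MulAction.toPermHom A V).rangeRestrict a) h1 h2 h3⟩

/-- Three vectors fixed in common only by the identity. -/
theorem exists_triple_stabilizer {A : Type u} [Group A] [Finite A] {V : Type v} [AddCommGroup V]
    [Finite V] [DistribMulAction A V] [FaithfulSMul A V] (hsol : Group.IsSolvable A)
    (hcr : ∀ U : AddSubgroup V, (∀ a : A, ∀ v ∈ U, a • v ∈ U) →
      ∃ W : AddSubgroup V, (∀ a : A, ∀ w ∈ W, a • w ∈ W) ∧ U ⊓ W = ⊥ ∧ U ⊔ W = ⊤) :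
    ∃ v₁ v₂ v₃ : V, ∀ a : A, a • v₁ = v₁ → a • v₂ = v₂ → a • v₃ = v₃ → a = 1 := by
  obtain ⟨x, y, z, hxyz⟩ := hasBase3 hsol hcr
  exact ⟨x, y, z, fun a h1 h2 h3 =>
    eq_of_smul_eq_smul fun t : V => by rw [one_smul]; exact hxyz a h1 h2 h3 t⟩

end Cfsg.Agent.BaseThree
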