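import Cfsg.Agent.Lib.OddBaseTwo.Section
import Mathlib.FieldTheory.Finite.Basic
import Mathlib.Tactic.LinearCombination

/-!
# Annihilators for a nondegenerate pairing, and small lemmas for the primitive case

* `perp`, `perp_perp`: the annihilator and double annihilator of a subgroup.
* `exists_zpow_mul_pow`: a non `r`-th power and the `r`-th powers give all nonzero scalars.
* `mul_pow_of_central`: the `n`-th power of a product with central commutator.
* `exists_eigen`: an operator of order `r` has an eigenvector when there are `r`-th roots of unity.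
-/

set_option autoImplicit false
set_option linter.style.haveILetI false

namespace Cfsg.Agent.BaseThree

open OddBaseTwo

universe u v w

section Pairing

variable {W : Type u} [CommGroup W] {K : Type v} [Field K] (f : W →* W →* Kˣ)

/-- The elements pairing trivially with `S`. -/
def perp (S : Subgroup W) : Subgroup W where
  carrier := {y | ∀ x ∈ S, f y x = 1}
  one_mem' := fun x _ => by rw [map_one, MonoidHom.one_apply]
  mul_mem' := fun {a b} ha hb x hx => by rw [map_mul, MonoidHom.mul_apply, ha x hx, hb x hx, one_mul]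
  inv_mem' := fun {a} ha x hx => by rw [map_inv, MonoidHom.inv_apply, ha x hx, inv_one]

theorem mem_perp {S : Subgroup W} {y : W} : y ∈ perp f S ↔ ∀ x ∈ S, f y x = 1 := Iff.rfl

theorem card_hom_le {G : Type u} [CommGroup G] [Finite G] :
    Finite (G →* Kˣ) ∧ Nat.card (G →* Kˣ) ≤ Nat.card G := by
  haveI := Fintype.ofFinite G
  let F : (G →* Kˣ) → (G →* K) := fun χ => (Units.coeHom K).comp χ
  have hF : Function.Injective F :=
    fun a b h => MonoidHom.ext fun y => Units.ext (DFunLike.congr_fun h y)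
  have hli := (linearIndependent_monoidHom G K).comp F hF
  haveI : Finite (G →* Kˣ) := hli.finite
  refine ⟨inferInstance, ?_⟩
  haveI := Fintype.ofFinite (G →* Kˣ)
  have := hli.fintype_card_le_finrank
  rwa [Module.finrank_fintype_fun_eq_card, ← Nat.card_eq_fintype_card, ← Nat.card_eq_fintype_card]
    at this

variable [Finite W] (halt : ∀ x : W, f x x = 1) (hnd : ∀ x : W, (∀ y, f x y = 1) → x = 1)

theorem card_le_perp (S : Subgroup W) : Nat.card W ≤ Nat.card (perp f S) * Nat.card S := by
  let Φ : W →* (S →* Kˣ) :=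
    { toFun := fun y => (f y).comp S.subtype
      map_one' := MonoidHom.ext fun x => by simp
      map_mul' := fun a b => MonoidHom.ext fun x => by simp }
  have hker : Φ.ker = perp f S := by
    ext y
    rw [MonoidHom.mem_ker, mem_perp]
    exact ⟨fun h x hx => DFunLike.congr_fun h (⟨x, hx⟩ : S),
      fun h => MonoidHom.ext fun x => h x x.2⟩
  obtain ⟨hfin, hle⟩ := card_hom_le (G := S) (K := K)
  have hc := Subgroup.card_mul_index Φ.ker
  rw [Subgroup.index_ker, hker] at hc
  rw [← hc]
  exact Nat.mul_le_mul_left _ ((Subgroup.card_le_card_group _).trans hle)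

include halt hnd in
theorem perp_mul_le (S : Subgroup W) : Nat.card S * Nat.card (perp f S) ≤ Nat.card W := by
  have hker : ∀ x : S, perp f S ≤ (f.flip (x : W)).ker := fun x y hy => hy x x.2
  let Ψ : S → (W ⧸ perp f S →* Kˣ) := fun x => QuotientGroup.lift _ (f.flip (x : W)) (hker x)
  have hinj : Function.Injective Ψ := by
    intro a b h
    refine Subtype.ext (mul_inv_eq_one.1 (hnd _ fun y => ?_))
    have h1 : f y a = f y b := DFunLike.congr_fun h (QuotientGroup.mk y)
    have h2 : f y ((a : W) * (b : W)⁻¹) = 1 := by rw [map_mul, map_inv, h1, mul_inv_cancel]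
    have h3 := pairing_skew f halt y ((a : W) * (b : W)⁻¹)
    rwa [h2, one_mul] at h3
  obtain ⟨hfin, hle⟩ := card_hom_le (G := W ⧸ perp f S) (K := K)
  rw [Subgroup.card_eq_card_quotient_mul_card_subgroup (perp f S)]
  exact Nat.mul_le_mul_right _ ((Nat.card_le_card_of_injective Ψ hinj).trans hle)

include halt hnd in
theorem perp_perp (S : Subgroup W) : perp f (perp f S) = S := by
  have hle : S ≤ perp f (perp f S) := fun x hx y hy => by
    have h := pairing_skew f halt y x
    rwa [hy x hx, one_mul] at h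
  refine (Subgroup.eq_of_le_of_card_ge hle ?_).symm
  exact Nat.le_of_mul_le_mul_left
    ((perp_mul_le f halt hnd (perp f S)).trans (card_le_perp f S)) Nat.card_pos

end Pairing

theorem exists_zpow_mul_pow {K : Type v} [Field K] [Finite K] {r : ℕ} (hr : r.Prime) {c : Kˣ}
    (hc : ∀ s : Kˣ, s ^ r ≠ c) (d : Kˣ) : ∃ (i : ℤ) (s : Kˣ), d = c ^ i * s ^ r := by
  obtain ⟨g, hg⟩ := IsCyclic.exists_zpow_surjective (G := Kˣ)
  obtain ⟨m, hm⟩ := hg c
  obtain ⟨n, hn⟩ := hg d
  change g ^ m = c at hm
  change g ^ n = d at hn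
  have hdvd : ¬ (r : ℤ) ∣ m := by
    rintro ⟨k, hk⟩
    refine hc (g ^ k) ?_
    rw [← hm, hk, mul_comm, zpow_mul, zpow_natCast]
  obtain ⟨x, y, hxy⟩ : IsCoprime (r : ℤ) m :=
    (Prime.coprime_iff_not_dvd (Nat.prime_iff_prime_int.1 hr)).2 hdvd
  refine ⟨y * n, g ^ (x * n), ?_⟩
  rw [← hm, ← hn, ← zpow_mul, ← zpow_natCast, ← zpow_mul, ← zpow_add]
  exact congrArg (g ^ ·) (by linear_combination (-n) * hxy)

theorem mul_pow_of_central {G : Type u} [Group G] {a b z : G} (hab : b * a = z * (a * b))
    (hza : Commute z a) (hzb : Commute z b) (n : ℕ) :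
    (a * b) ^ n = z ^ (n.choose 2) * (a ^ n * b ^ n) := by
  have hpow : ∀ m : ℕ, b ^ m * a = z ^ m * (a * b ^ m) := by
    intro m
    induction m with
    | zero => simp
    | succ m ih =>
      calc b ^ (m + 1) * a = b ^ m * (b * a) := by rw [pow_succ, mul_assoc]
        _ = z * (b ^ m * a) * b := by
          rw [hab, ← mul_assoc, ← (hzb.pow_right m).eq]
          group
        _ = z ^ (m + 1) * (a * b ^ (m + 1)) := by rw [ih, pow_succ' z, pow_succ b]; group
  induction n with
  | zero => simp
  | succ n ih =>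
    have hz : Commute (z ^ n) (a ^ n) := hza.pow_pow n n
    calc (a * b) ^ (n + 1) = z ^ n.choose 2 * (a ^ n * (b ^ n * a) * b) := by
          rw [pow_succ, ih]; group
      _ = z ^ n.choose 2 * (z ^ n * (a ^ n * a) * (b ^ n * b)) := by
          rw [hpow n, ← mul_assoc (a ^ n) (z ^ n), ← hz.eq]; group
      _ = z ^ (n + 1).choose 2 * (a ^ (n + 1) * b ^ (n + 1)) := by
          rw [show (n + 1).choose 2 = n.choose 2 + n by
              rw [Nat.choose_succ_succ' n 1, Nat.choose_one_right, add_comm],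
            pow_add z, pow_succ a, pow_succ b, mul_assoc (z ^ n.choose 2) (z ^ n), mul_assoc (z ^ n)]

/-- An endomorphism of order `r` fixing a nonzero orbit sum has an eigenvector. -/
theorem exists_eigen {K : Type v} [Field K] {V : Type w} [AddCommGroup V] [Module K V]
    {r : ℕ} (hr : r.Prime) {ζ : K} (hζ : ζ ^ r = 1) (hζ1 : ζ ≠ 1) (hrK : (r : K) ≠ 0)
    (E : Submodule K V) (T : V →ₗ[K] V) (hE : ∀ x ∈ E, T x ∈ E) {x₀ : V} (hx₀ : x₀ ∈ E)
    (hne : x₀ ≠ 0) (hT : (T ^ r) x₀ = x₀) :
    ∃ x ∈ E, x ≠ 0 ∧ ∃ t : K, T x = t • x := by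
  have hmem : ∀ i, (T ^ i) x₀ ∈ E := fun i => by
    induction i with
    | zero => exact hx₀
    | succ i ih => rw [pow_succ']; exact hE _ ih
  let v : ℕ → V := fun j => ∑ i ∈ Finset.range r, ζ ^ (i * j) • (T ^ i) x₀
  have heig : ∀ j, ζ ^ j • T (v j) = v j := by
    intro j
    let F : ℕ → V := fun i => ζ ^ (i * j) • (T ^ i) x₀
    have hFr : F r = F 0 := by
      simp only [F, hT, pow_mul, hζ, one_pow, pow_zero, Module.End.one_apply]
    have h1 := Finset.sum_range_succ F r
    have h2 := Finset.sum_range_succ' F r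
    rw [h1, hFr] at h2
    have h3 : ζ ^ j • T (v j) = ∑ i ∈ Finset.range r, F (i + 1) := by
      simp only [v, map_sum, Finset.smul_sum, map_smul, smul_smul]
      refine Finset.sum_congr rfl fun i _ => ?_
      simp only [F]
      rw [pow_succ' T, Module.End.mul_apply, ← pow_add]
      congr 2
      ring
    rw [h3, ← add_right_cancel h2]
  have hsum : ∑ j ∈ Finset.range r, v j = (r : K) • x₀ := by
    simp only [v]
    rw [Finset.sum_comm]
    rw [Finset.sum_eq_single 0]
    · simp [Nat.cast_smul_eq_nsmul]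
    · intro i hi hi0
      rw [← Finset.sum_smul]
      have hir : i < r := Finset.mem_range.1 hi
      have hne1 : ζ ^ i ≠ 1 := fun h => by
        have h1 : orderOf ζ ∣ i := orderOf_dvd_of_pow_eq_one h
        haveI := Fact.mk hr
        rw [orderOf_eq_prime hζ hζ1] at h1
        exact absurd (Nat.le_of_dvd (Nat.pos_of_ne_zero hi0) h1) (by omega)
      have h0 : ∑ j ∈ Finset.range r, ζ ^ (i * j) = 0 := by
        have h1 := geom_sum_mul (ζ ^ i) r
        rw [← pow_mul ζ i r, mul_comm i r, pow_mul ζ r i, hζ, one_pow, sub_self, mul_eq_zero] at h1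
        simpa only [pow_mul] using h1.resolve_right (sub_ne_zero.2 hne1)
      rw [h0, zero_smul]
    · exact fun h => absurd (Finset.mem_range.2 hr.pos) h
  obtain ⟨j, -, hj⟩ : ∃ j ∈ Finset.range r, v j ≠ 0 := Finset.exists_ne_zero_of_sum_ne_zero (by
    rw [hsum]; exact smul_ne_zero hrK hne)
  refine ⟨v j, E.sum_mem fun i _ => E.smul_mem _ (hmem i), hj, (ζ ^ j)⁻¹, ?_⟩
  conv_rhs => rw [← heig j]
  rw [inv_smul_smul₀ (pow_ne_zero _ fun h => by rw [h, zero_pow hr.ne_zero] at hζ; exact zero_ne_one hζ)]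

end Cfsg.Agent.BaseThree
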